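import Cfsg.Agent.GroupStructure3.RankFourTop.Core
import Cfsg.Agent.OddLocal.PLengthZGroup
import Cfsg.Agent.Lib.Coprime.Commutator
import Cfsg.Agent.Solvable.Basics

/-!
# The symmetric group of degree six does not act on a radical of sectional rank four
-/

set_option autoImplicit false
set_option linter.all false

namespace Cfsg.Agent.GroupStructure3.RankFourTop

open Subgroup Equiv
open scoped IsMulCommutative

universe u v

theorem sectional_subgroup {X : Type u} [Group X] {p k : ℕ} (h : Cfsg.SectionalPRankLE p k X)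
    (H : Subgroup X) : Cfsg.SectionalPRankLE p k ↥H := by
  intro K N hN A hA hexp
  let e : ↥(K.map H.subtype) ≃* ↥K := (equivMapOfInjective K H.subtype H.subtype_injective).symm
  haveI : (N.comap e.toMonoidHom).Normal := hN.comap _
  let q : ↥(K.map H.subtype) ⧸ N.comap e.toMonoidHom ≃* ↥K ⧸ N :=
    QuotientGroup.congr _ _ e (map_comap_eq_self_of_surjective e.surjective N)
  haveI := hA
  have hA' : IsMulCommutative ↥(A.map q.symm.toMonoidHom) :=
    ⟨⟨fun ⟨a, a', ha', hae⟩ ⟨b, b', hb', hbe⟩ => Subtype.ext (by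
      show a * b = b * a
      rw [← hae, ← hbe, ← map_mul, ← map_mul]
      exact congrArg _ (congrArg Subtype.val (IsMulCommutative.is_comm.comm (⟨a', ha'⟩ : A) ⟨b', hb'⟩)))⟩⟩
  have := h (K.map H.subtype) (N.comap e.toMonoidHom) _ hA' (by
    rintro _ ⟨a, ha, rfl⟩; rw [← map_pow, hexp a ha, map_one])
  rwa [card_map_of_injective (f := q.symm.toMonoidHom) q.symm.injective] at this

theorem sectional_surjective {X : Type u} {Y : Type v} [Group X] [Group Y] {p k : ℕ}
    (h : Cfsg.SectionalPRankLE p k X) {f : X →* Y} (hf : Function.Surjective f) :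
    Cfsg.SectionalPRankLE p k Y := by
  intro K N hN A hA hexp
  let g : ↥(K.comap f) →* ↥K ⧸ N := (QuotientGroup.mk' N).comp (f.subgroupComap K)
  have hg : Function.Surjective g := (QuotientGroup.mk'_surjective N).comp fun ⟨y, hy⟩ => by
    obtain ⟨x, rfl⟩ := hf y; exact ⟨⟨x, hy⟩, rfl⟩
  let q : ↥(K.comap f) ⧸ g.ker ≃* ↥K ⧸ N := QuotientGroup.quotientKerEquivOfSurjective g hg
  haveI := hA
  have hA' : IsMulCommutative ↥(A.map q.symm.toMonoidHom) :=
    ⟨⟨fun ⟨a, a', ha', hae⟩ ⟨b, b', hb', hbe⟩ => Subtype.ext (by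
      show a * b = b * a
      rw [← hae, ← hbe, ← map_mul, ← map_mul]
      exact congrArg _ (congrArg Subtype.val (IsMulCommutative.is_comm.comm (⟨a', ha'⟩ : A) ⟨b', hb'⟩)))⟩⟩
  have := h (K.comap f) g.ker _ hA' (by
    rintro _ ⟨a, ha, rfl⟩; rw [← map_pow, hexp a ha, map_one])
  rwa [card_map_of_injective (f := q.symm.toMonoidHom) q.symm.injective] at this

/-- The symmetric group of degree six is no section of the radical quotient. -/
theorem not_six {X : Type u} [Group X] [Finite X] (hc : Cfsg.IsPConstrained 2 X)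
    (hO : Cfsg.pPrimeCore 2 X = ⊥) (h4 : Cfsg.SectionalPRankLE 2 4 X)
    (φ : Perm (Fin 6) →* X ⧸ Cfsg.pCore 2 X) (hφ : Function.Injective φ) : False := by
  haveI : Fact (Nat.Prime 2) := ⟨Nat.prime_two⟩
  have hPQ : Cfsg.pPrimePCore 2 X = Cfsg.pCore 2 X := OddLocal.PLengthZGroup.pPrimePCore_eq_pCore hO
  have hPp : IsPGroup 2 (Cfsg.pCore 2 X) := Cores.pCore_isPGroup 2
  have hcent : centralizer (Cfsg.pCore 2 X : Set X) ≤ Cfsg.pCore 2 X := by
    obtain ⟨S⟩ := (inferInstance : Nonempty (Sylow 2 ↥(Cfsg.pPrimePCore 2 X)))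
    have hp : IsPGroup 2 ↥(Cfsg.pPrimePCore 2 X) := hPQ ▸ hPp
    have hS : (S : Subgroup ↥(Cfsg.pPrimePCore 2 X)) = ⊤ :=
      (S.is_maximal' (hp.to_subgroup (⊤ : Subgroup _)) le_top).symm
    have h := hc S
    rw [hS, ← MonoidHom.range_eq_map, Subgroup.range_subtype, hPQ] at h
    exact h
  set P := Cfsg.pCore 2 X with hP
  haveI : P.Normal := by rw [hP]; infer_instance
  haveI : (frattini ↥P).Characteristic := frattini_characteristic
  set F : Subgroup X := (frattini ↥P).map P.subtype with hF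
  haveI : F.Normal := by rw [hF]; exact ConjAct.normal_of_characteristic_of_normal
  have hFP : F ≤ P := map_subtype_le _
  set H₀ : Subgroup X := φ.range.comap (QuotientGroup.mk' P) with hH₀
  have hPH : P ≤ H₀ := fun x hx => ⟨1, by rw [map_one]; exact ((QuotientGroup.eq_one_iff x).2 hx).symm⟩
  let g₀ : H₀ →* Perm (Fin 6) := (MonoidHom.ofInjective hφ).symm.toMonoidHom.comp
    (((QuotientGroup.mk' P).comp H₀.subtype).codRestrict φ.range fun x => x.2)
  have hg₀ : ∀ x : H₀, φ (g₀ x) = ((x : X) : X ⧸ P) := fun x =>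
    congrArg Subtype.val ((MonoidHom.ofInjective hφ).apply_symm_apply
      ⟨((x : X) : X ⧸ P), x.2⟩)
  have hg₀ker : ∀ x : H₀, g₀ x = 1 ↔ (x : X) ∈ P := fun x => by
    rw [← QuotientGroup.eq_one_iff (N := P) (x : X), ← hg₀]
    exact ⟨fun h => by rw [h, map_one], fun h => hφ (h.trans (map_one φ).symm)⟩
  have hg₀s : Function.Surjective g₀ := fun σ => by
    obtain ⟨x, hx⟩ := QuotientGroup.mk'_surjective P (φ σ)
    exact ⟨⟨x, ⟨σ, hx.symm⟩⟩, hφ ((hg₀ _).trans hx)⟩
  haveI : (F.subgroupOf H₀).Normal := ‹F.Normal›.subgroupOf H₀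
  let π : ↥H₀ ⧸ F.subgroupOf H₀ →* Perm (Fin 6) :=
    QuotientGroup.lift _ g₀ fun x hx => (hg₀ker x).2 (hFP hx)
  have hπs : Function.Surjective π := fun σ => by
    obtain ⟨x, hx⟩ := hg₀s σ; exact ⟨(x : ↥H₀ ⧸ F.subgroupOf H₀), hx⟩
  have hkey : ∀ v ∈ π.ker, ∃ x : H₀, (x : ↥H₀ ⧸ F.subgroupOf H₀) = v ∧ (x : X) ∈ P := by
    intro v hv
    obtain ⟨x, rfl⟩ := QuotientGroup.mk_surjective v
    exact ⟨x, rfl, (hg₀ker x).1 hv⟩
  have hsq : ∀ v ∈ π.ker, v * v = 1 := by
    intro v hv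
    obtain ⟨x, rfl, hx⟩ := hkey v hv
    rw [← QuotientGroup.mk_mul, QuotientGroup.eq_one_iff, mem_subgroupOf, coe_mul, ← pow_two]
    exact ⟨⟨(x : X), hx⟩ ^ 2, Solvable.Basics.pow_mem_frattini hPp ⟨(x : X), hx⟩, rfl⟩
  have hcomm : ∀ v ∈ π.ker, ∀ w ∈ π.ker, v * w = w * v := fun v hv w hw => by
    have h1 := hsq _ (mul_mem hv hw)
    calc v * w = v * w * (w * v * (w * v)) := by rw [hsq _ (mul_mem hw hv), mul_one]
      _ = v * (w * w) * v * (w * v) := by group
      _ = w * v := by rw [hsq w hw, mul_one, hsq v hv, one_mul]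
  haveI : IsMulCommutative π.ker := ⟨⟨fun a b => Subtype.ext (hcomm _ a.2 _ b.2)⟩⟩
  let κ : ↥H₀ ⧸ F.subgroupOf H₀ →* MulAut π.ker := MulAut.conjNormal
  have hκ : π.ker ≤ κ.ker := fun v hv => MulEquiv.ext fun w => Subtype.ext (by
    show (MulAut.conjNormal v w : ↥H₀ ⧸ F.subgroupOf H₀) = w
    rw [MulAut.conjNormal_apply, hcomm v hv w w.2, mul_inv_cancel_right])
  let ρ : Perm (Fin 6) →* MulAut π.ker := MonoidHom.liftOfSurjective π hπs ⟨κ, hκ⟩
  have happ : ∀ (y : ↥H₀ ⧸ F.subgroupOf H₀) (v : π.ker),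
      (ρ (π y) v : ↥H₀ ⧸ F.subgroupOf H₀) = y * v * y⁻¹ := fun y v => by
    show ((MonoidHom.liftOfSurjective π hπs ⟨κ, hκ⟩) (π y) v : ↥H₀ ⧸ F.subgroupOf H₀) = _
    rw [MonoidHom.liftOfRightInverse_comp_apply]
    exact MulAut.conjNormal_apply y v
  -- no element of odd prime order acts trivially
  have hodd : ∀ q : ℕ, q.Prime → q ≠ 2 → ∀ σ ∈ ρ.ker, orderOf σ = q → False := by
    intro q hq hq2 σ hσ hσq
    obtain ⟨x, rfl⟩ := hg₀s σ
    have hxq : (x : X) ^ q ∈ P := by
      rw [← SubmonoidClass.coe_pow, ← hg₀ker, map_pow, ← hσq, pow_orderOf_eq_one]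
    obtain ⟨n, hn⟩ := hPp ⟨_, hxq⟩
    set y : H₀ := x ^ 2 ^ n with hy
    have hyq : y ^ q = 1 := Subtype.ext (by
      rw [hy, SubmonoidClass.coe_pow, SubmonoidClass.coe_pow, ← pow_mul, mul_comm, pow_mul]
      exact congrArg Subtype.val hn)
    have hyker : g₀ y ∈ ρ.ker := by rw [hy, map_pow]; exact pow_mem hσ _
    have hy1 : (y : X) ∉ P := fun h => by
      rw [← hg₀ker, hy, map_pow, ← orderOf_dvd_iff_pow_eq_one, hσq] at h
      exact hq2 ((Nat.prime_dvd_prime_iff_eq hq Nat.prime_two).1 (hq.dvd_of_dvd_pow h))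
    haveI : Fact q.Prime := ⟨hq⟩
    have hyo : orderOf (y : X) = q := orderOf_eq_prime (by rw [← SubmonoidClass.coe_pow, hyq]; rfl)
      (fun h => hy1 (h ▸ one_mem P))
    have htriv : ∀ k ∈ P, (y : X) * k * (y : X)⁻¹ * k⁻¹ ∈ F := by
      intro k hk
      have hv : ((⟨k, hPH hk⟩ : H₀) : ↥H₀ ⧸ F.subgroupOf H₀) ∈ π.ker := (hg₀ker _).2 hk
      have h1 := happ (y : ↥H₀ ⧸ F.subgroupOf H₀) ⟨_, hv⟩
      rw [show π (y : ↥H₀ ⧸ F.subgroupOf H₀) = g₀ y from rfl, MonoidHom.mem_ker.1 hyker, MulAut.one_apply] at h1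
      have h2 : ((y * ⟨k, hPH hk⟩ * y⁻¹ * (⟨k, hPH hk⟩ : H₀)⁻¹ : H₀) : ↥H₀ ⧸ F.subgroupOf H₀) = 1 := by
        rw [QuotientGroup.mk_mul, QuotientGroup.mk_mul, QuotientGroup.mk_mul, QuotientGroup.mk_inv,
          QuotientGroup.mk_inv, ← h1]
        exact mul_inv_cancel _
      exact (QuotientGroup.eq_one_iff (y * ⟨k, hPH hk⟩ * y⁻¹ * (⟨k, hPH hk⟩ : H₀)⁻¹)).1 h2
    have hsub : zpowers (y : X) ≤ centralizer (P : Set X) := by
      refine Coprime.le_centralizer_of_frattini ?_ ?_ ?_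
      · rw [normalizer_eq_top]; exact le_top
      · rw [Nat.card_zpowers, hyo]
        obtain ⟨j, hj⟩ := (hPp.to_subgroup (frattini ↥P)).exists_card_eq
        rw [hj]
        exact Nat.Coprime.pow_right _ ((Nat.coprime_primes hq Nat.prime_two).2 hq2)
      · intro a ha k hk
        obtain ⟨j, rfl⟩ := Submonoid.mem_powers_iff a (y : X) |>.1 (mem_powers_iff_mem_zpowers.2 ha)
        clear ha
        induction j with
        | zero => simp [one_mem]
        | succ j ih =>
          have e : (y : X) ^ (j + 1) * k * ((y : X) ^ (j + 1))⁻¹ * k⁻¹ =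
              ((y : X) * ((y : X) ^ j * k * ((y : X) ^ j)⁻¹ * k⁻¹) * (y : X)⁻¹) *
                ((y : X) * k * (y : X)⁻¹ * k⁻¹) := by rw [pow_succ']; group
          rw [e]
          exact F.mul_mem (‹F.Normal›.conj_mem _ ih _) (htriv k hk)
    exact hy1 (hcent (hsub (mem_zpowers _)))
  have hinj : Function.Injective ρ := by
    rw [← MonoidHom.ker_eq_bot_iff]
    haveI : IsSimpleGroup (alternatingGroup (Fin 6)) := alternatingGroup.isSimpleGroup (by rw [Nat.card_fin]; norm_num)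
    set A := ρ.ker.subgroupOf (alternatingGroup (Fin 6)) with hA
    rcases Subgroup.Normal.eq_bot_or_eq_top (show A.Normal from (inferInstance : ρ.ker.Normal).subgroupOf _) with h | h
    · rw [eq_bot_iff]
      intro σ hσ
      rw [mem_bot]
      by_contra hne
      have hcen : ∀ τ : Perm (Fin 6), τ * σ * τ⁻¹ = σ := fun τ => by
        have hm : τ * σ * τ⁻¹ * σ⁻¹ ∈ ρ.ker := mul_mem ((inferInstance : ρ.ker.Normal).conj_mem _ hσ τ) (inv_mem hσ)
        have ha : τ * σ * τ⁻¹ * σ⁻¹ ∈ alternatingGroup (Fin 6) := by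
          rw [Equiv.Perm.mem_alternatingGroup]; simp [mul_comm, mul_left_comm]
        have : (⟨_, ha⟩ : alternatingGroup (Fin 6)) ∈ A := hm
        rw [h, mem_bot] at this
        exact mul_inv_eq_one.1 (congrArg Subtype.val this)
      have : σ ∈ center (Perm (Fin 6)) := mem_center_iff.2 fun τ => by
        calc τ * σ = τ * σ * τ⁻¹ * τ := by group
          _ = σ * τ := by rw [hcen]
      refine hne (Equiv.ext fun a => ?_)
      by_contra ha
      have ha' : σ a ≠ a := ha
      obtain ⟨c, hc1, hc2⟩ := (show ∀ a b : Fin 6, ∃ c, c ≠ a ∧ c ≠ b by decide +kernel) a (σ a)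
      have h2 := congrArg (fun f : Perm (Fin 6) => f a) (mem_center_iff.1 this (swap (σ a) c))
      simp only [Equiv.Perm.mul_apply, swap_apply_left, swap_apply_of_ne_of_ne (Ne.symm ha') (Ne.symm hc1)] at h2
      exact hc2 h2
    · exfalso
      have ha : (swap 0 1 * swap 1 2 : Perm (Fin 6)) ∈ alternatingGroup (Fin 6) := by
        rw [Equiv.Perm.mem_alternatingGroup]; decide +kernel
      have : (⟨_, ha⟩ : alternatingGroup (Fin 6)) ∈ A := h ▸ mem_top _
      exact hodd 3 Nat.prime_three (by norm_num) (swap 0 1 * swap 1 2) (mem_subgroupOf.1 this)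
        (by haveI : Fact (Nat.Prime 3) := ⟨Nat.prime_three⟩
            exact orderOf_eq_prime (by decide +kernel) (by decide +kernel))
  -- the order of the kernel
  have hY : Cfsg.SectionalPRankLE 2 4 (↥H₀ ⧸ F.subgroupOf H₀) :=
    sectional_surjective (sectional_subgroup h4 H₀) (QuotientGroup.mk'_surjective _)
  have hle : Nat.card π.ker ≤ 2 ^ 4 := by
    have h := hY π.ker ⊥ ⊤ ⟨⟨fun a b => Subtype.ext (by
      obtain ⟨a', ha'⟩ := QuotientGroup.mk_surjective (a : ↥π.ker ⧸ (⊥ : Subgroup π.ker))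
      obtain ⟨b', hb'⟩ := QuotientGroup.mk_surjective (b : ↥π.ker ⧸ (⊥ : Subgroup π.ker))
      show (a : ↥π.ker ⧸ (⊥ : Subgroup π.ker)) * b = b * a
      rw [← ha', ← hb', ← QuotientGroup.mk_mul, ← QuotientGroup.mk_mul, mul_comm])⟩⟩ (fun a _ => by
      obtain ⟨a', rfl⟩ := QuotientGroup.mk_surjective a
      rw [← QuotientGroup.mk_pow, pow_two, show a' * a' = 1 from Subtype.ext (hsq a' a'.2), QuotientGroup.mk_one])
    rwa [card_top, Nat.card_congr (QuotientGroup.quotientBot (G := π.ker)).toEquiv] at h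
  have hV2 : IsPGroup 2 π.ker := fun v => ⟨1, by rw [pow_one, pow_two]; exact Subtype.ext (hsq v v.2)⟩
  obtain ⟨m, hm⟩ := IsPGroup.iff_card.1 hV2
  have hm4 : m ≤ 4 := (Nat.pow_le_pow_iff_right (by norm_num)).1 (hm ▸ hle)
  have hcard : Nat.card π.ker = 16 := by
    by_contra hne
    have hm3 : m ≤ 3 := by
      rcases Nat.lt_or_ge m 4 with h | h
      · omega
      · exact absurd (by rw [hm, le_antisymm hm4 h]; norm_num) hne
    haveI : Fact (Nat.Prime 5) := ⟨by norm_num⟩
    set σ : Perm (Fin 6) := swap 0 1 * swap 1 2 * swap 2 3 * swap 3 4 with hσ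
    have ho : orderOf σ = 5 := orderOf_eq_prime (by decide +kernel) (by decide +kernel)
    classical
    haveI : Fintype π.ker := Fintype.ofFinite _
    let τ : Perm π.ker := (ρ σ).toEquiv
    have hτ : orderOf τ = 5 := by
      refine orderOf_eq_prime ?_ ?_
      · have : (ρ σ) ^ 5 = 1 := by rw [← map_pow, ← ho, pow_orderOf_eq_one, map_one]
        have e := congrArg (MulAut.toPerm π.ker) this
        rwa [map_pow, map_one] at e
      · intro e
        have h1 : σ = 1 := hinj (by rw [map_one]; exact MulEquiv.ext fun v => Equiv.ext_iff.1 e v)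
        rw [h1, orderOf_one] at ho; norm_num at ho
    obtain ⟨n, hn⟩ := Equiv.Perm.cycleType_prime_order (hτ ▸ (by norm_num : Nat.Prime 5))
    have hsupp := τ.sum_cycleType
    rw [hn, hτ, Multiset.sum_replicate, smul_eq_mul] at hsupp
    have hfix : Nat.card (fixed ρ σ) + τ.support.card = Nat.card π.ker := by
      have e : Nat.card (fixed ρ σ) = (τ.supportᶜ).card := by
        rw [← SetLike.coe_sort_coe, Nat.card_coe_set_eq, ← Set.ncard_coe_finset]
        congr 1; ext v; simp [mem_fixed, τ]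
      rw [e, Finset.card_compl, ← Nat.card_eq_fintype_card]
      have := τ.support.card_le_univ
      rw [← Nat.card_eq_fintype_card] at this
      omega
    have hd := card_subgroup_dvd_card (fixed ρ σ)
    have hpos : 0 < Nat.card (fixed ρ σ) := Nat.card_pos
    rw [hm] at hfix hd
    generalize Nat.card (fixed ρ σ) = f at *
    interval_cases m <;> norm_num at hfix hd ⊢ <;> (rw [← hsupp] at hfix) <;>
      first | omega | (revert hd; decide) | (obtain rfl : f = 3 := (by omega); revert hd; decide)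
  exact not_rank_four (π := π) (ρ := ρ) ⟨hπs, hcomm, hsq, hcard, hinj, happ⟩ hY

end Cfsg.Agent.GroupStructure3.RankFourTop
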