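import Mathlib

/-!
# A group acting on a four-dimensional space over the field with two elements
-/

set_option autoImplicit false
set_option linter.all false

namespace Cfsg.Agent.GroupStructure3.RankFourTop

open Subgroup

variable {G V : Type*} [Group G] [CommGroup V] [Finite V] (hsq : ∀ v : V, v * v = 1)
  (ρ : G →* MulAut V)

/-- The vectors fixed by `g`. -/
def fixed (g : G) : Subgroup V := (ρ g).toMonoidHom.eqLocus (MonoidHom.id V)

theorem mem_fixed {g : G} {v : V} : v ∈ fixed ρ g ↔ ρ g v = v := Iff.rfl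

/-- `v ↦ [v, a]`. -/
def phi (a : G) : V →* V where
  toFun v := v * ρ a v
  map_one' := by simp
  map_mul' v w := by rw [map_mul]; exact mul_mul_mul_comm _ _ _ _

theorem phi_apply (a : G) (v : V) : phi ρ a v = v * ρ a v := rfl

include hsq

theorem ker_phi (a : G) : (phi ρ a).ker = fixed ρ a := by
  ext v
  rw [MonoidHom.mem_ker, mem_fixed, phi_apply]
  constructor
  · intro h
    calc ρ a v = (v * v) * ρ a v := by rw [hsq, one_mul]
      _ = v * (v * ρ a v) := mul_assoc _ _ _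
      _ = v := by rw [h, mul_one]
  · intro h; rw [h, hsq]

theorem range_le_fixed {a : G} (ha : a * a = 1) : (phi ρ a).range ≤ fixed ρ a := by
  rintro _ ⟨v, rfl⟩
  rw [mem_fixed, phi_apply, map_mul, ← MulAut.mul_apply, ← map_mul, ha, map_one, MulAut.one_apply,
    mul_comm]

theorem card_range_mul (hV : Nat.card V = 16) (a : G) :
    Nat.card (phi ρ a).range * Nat.card (fixed ρ a) = 16 := by
  rw [← ker_phi hsq, ← hV, ← (phi ρ a).ker.card_mul_index, Subgroup.index_ker, mul_comm]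

omit hsq

theorem pow_three_apply {z : G} (hz : z ^ 3 = 1) (v : V) : ρ z (ρ z (ρ z v)) = v := by
  rw [← MulAut.mul_apply, ← MulAut.mul_apply, ← map_mul, ← map_mul,
    show z * z * z = z ^ 3 by rw [pow_succ, pow_two], hz, map_one, MulAut.one_apply]

/-- An element of order 3 fixes a subgroup of order congruent to that of any invariant subgroup. -/
theorem card_modEq {z : G} (hz : z ^ 3 = 1) (W : Subgroup V) (hW : ∀ v ∈ W, ρ z v ∈ W) :
    Nat.card W ≡ Nat.card ↥(W ⊓ fixed ρ z) [MOD 3] := by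
  haveI : Fact (Nat.Prime 3) := ⟨Nat.prime_three⟩
  have hp : IsPGroup 3 (zpowers z) := fun g => ⟨1, by
    obtain ⟨k, hk⟩ := mem_zpowers_iff.1 g.2
    apply Subtype.ext
    rw [SubmonoidClass.coe_pow, ← hk, pow_one, ← zpow_natCast, ← zpow_mul, mul_comm, zpow_mul,
      zpow_natCast, hz, one_zpow]
    rfl⟩
  have hall : ∀ g : zpowers z, ∀ v ∈ W, ρ (g : G) v ∈ W := by
    intro g v hv
    obtain ⟨k, hk⟩ := mem_zpowers_iff.1 g.2
    have h3 : z ^ k = z ^ (k % 3).toNat := by
      rw [← zpow_natCast, Int.toNat_of_nonneg (Int.emod_nonneg _ (by norm_num))]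
      conv_lhs => rw [← Int.emod_add_mul_ediv k 3]
      rw [zpow_add, zpow_mul, show z ^ (3 : ℤ) = 1 from by rw [show (3 : ℤ) = ((3 : ℕ) : ℤ) from rfl, zpow_natCast, hz],
        one_zpow, mul_one]
    rw [← hk, h3]
    generalize (k % 3).toNat = n
    induction n with
    | zero => simpa using hv
    | succ n ih => rw [pow_succ', map_mul, MulAut.mul_apply]; exact hW _ ih
  letI : MulAction (zpowers z) W :=
    { smul := fun g v => ⟨ρ (g : G) v, hall g _ v.2⟩
      one_smul := fun v => Subtype.ext (by show ρ ((1 : zpowers z) : G) (v : V) = v; simp)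
      mul_smul := fun g h v => Subtype.ext (by
        show ρ ((g * h : zpowers z) : G) (v : V) = ρ (g : G) (ρ (h : G) v)
        simp) }
  have h := hp.card_modEq_card_fixedPoints W
  have e : MulAction.fixedPoints (zpowers z) W ≃ ↥(W ⊓ fixed ρ z) :=
    { toFun := fun v => ⟨v.1, v.1.2, congrArg Subtype.val (v.2 ⟨z, mem_zpowers z⟩)⟩
      invFun := fun v => ⟨⟨v.1, v.2.1⟩, fun g => by
        obtain ⟨k, hk⟩ := mem_zpowers_iff.1 g.2
        apply Subtype.ext
        show ρ (g : G) (v : V) = v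
        rw [← hk, map_zpow]
        exact MulAction.mem_stabilizer_iff.1
          ((zpow_mem (MulAction.mem_stabilizer_iff.2 (show (ρ z) • (v : V) = v from v.2.2)) k :
            (ρ z) ^ k ∈ MulAction.stabilizer (MulAut V) (v : V)))⟩
      left_inv := fun v => rfl
      right_inv := fun v => rfl }
  rwa [Nat.card_congr e] at h

variable (hρ : Function.Injective ρ) (hV : Nat.card V = 16)
include hρ hV

theorem fixed_card {z : G} (hz : z ^ 3 = 1) (hz1 : z ≠ 1) :
    Nat.card (fixed ρ z) = 1 ∨ Nat.card (fixed ρ z) = 4 := by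
  have h := card_modEq ρ hz ⊤ (fun v _ => trivial)
  rw [top_inf_eq, card_top, hV] at h
  have h16 : Nat.card (fixed ρ z) ≠ 16 := fun e => hz1 (hρ (MulEquiv.ext fun v => by
    rw [map_one, MulAut.one_apply]
    have : fixed ρ z = ⊤ := eq_top_of_card_eq _ (by rw [e, hV])
    exact mem_fixed ρ |>.1 (this ▸ mem_top v)))
  have hd : Nat.card (fixed ρ z) ∈ Nat.divisors 16 :=
    Nat.mem_divisors.2 ⟨hV ▸ card_subgroup_dvd_card _, by norm_num⟩
  rw [show Nat.divisors 16 = {1, 2, 4, 8, 16} by decide] at hd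
  unfold Nat.ModEq at h
  simp only [Finset.mem_insert, Finset.mem_singleton] at hd
  omega

include hsq

theorem range_ne_bot {a : G} (ha : a ≠ 1) : (phi ρ a).range ≠ ⊥ := fun h =>
  ha (hρ (MulEquiv.ext fun v => by
    rw [map_one, MulAut.one_apply]
    have : phi ρ a v ∈ (⊥ : Subgroup V) := h ▸ ⟨v, rfl⟩
    exact (mem_fixed ρ).1 (ker_phi hsq ρ a ▸ (MonoidHom.mem_ker.2 (mem_bot.1 this)))))

/-- An involution commuting with an element of order 3 with fixed points is a transvection whose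
centre is fixed. -/
theorem transvection {a z : G} (ha : a * a = 1) (ha1 : a ≠ 1) (hz : z ^ 3 = 1)
    (hz4 : Nat.card (fixed ρ z) = 4) (haz : a * z = z * a) :
    Nat.card (phi ρ a).range = 2 ∧ fixed ρ a ⊓ fixed ρ z = (phi ρ a).range := by
  have hcomm : ∀ v, phi ρ a (ρ z v) = ρ z (phi ρ a v) := fun v => by
    rw [phi_apply, phi_apply, map_mul, ← MulAut.mul_apply, ← MulAut.mul_apply, ← map_mul, ← map_mul, haz]
  set I := (phi ρ a).range with hI
  have hIz : ∀ v ∈ I, ρ z v ∈ I := by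
    rintro _ ⟨w, rfl⟩; exact ⟨ρ z w, hcomm w⟩
  have hmul := card_range_mul hsq ρ hV a
  have hle : Nat.card I ≤ Nat.card (fixed ρ a) := Subgroup.card_le_of_le (range_le_fixed hsq ρ ha)
  have hI1 : 1 < Nat.card I :=
    (Subgroup.one_lt_card_iff_ne_bot _).2 (range_ne_bot hsq ρ hρ hV ha1)
  have hI24 : Nat.card I = 2 ∨ Nat.card I = 4 := by
    have hd : Nat.card I ∈ Nat.divisors 16 := Nat.mem_divisors.2 ⟨Dvd.intro _ hmul, by norm_num⟩
    rw [show Nat.divisors 16 = {1, 2, 4, 8, 16} by decide] at hd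
    simp only [Finset.mem_insert, Finset.mem_singleton] at hd
    rcases hd with h | h | h | h | h <;> rw [h] at hmul hle hI1 ⊢ <;> omega
  -- not every fixed point of `z` is fixed by `a`
  have hnot : I ≤ fixed ρ z → ¬ fixed ρ z ≤ fixed ρ a := by
    intro hIf hfa
    refine range_ne_bot hsq ρ hρ hV ha1 (le_bot_iff.1 ?_)
    rintro _ ⟨v, rfl⟩
    have hw : v * ρ z v * ρ z (ρ z v) ∈ fixed ρ z := by
      rw [mem_fixed, map_mul, map_mul, pow_three_apply ρ hz]; ac_rfl
    have h1 : phi ρ a (v * ρ z v * ρ z (ρ z v)) = 1 := by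
      rw [← MonoidHom.mem_ker, ker_phi hsq]; exact hfa hw
    have hf : ρ z (phi ρ a v) = phi ρ a v := hIf ⟨v, rfl⟩
    rw [map_mul, map_mul, hcomm (ρ z v), hcomm v, hf, hf, hsq, one_mul] at h1
    exact mem_bot.2 h1
  have hIfix : I ≤ fixed ρ z := by
    have h := card_modEq ρ hz I hIz
    by_contra hcon
    have hlt : Nat.card ↥(I ⊓ fixed ρ z) ≠ Nat.card I := fun e =>
      hcon (inf_eq_left.1 (eq_of_le_of_card_ge inf_le_left e.ge))
    have hd : Nat.card ↥(I ⊓ fixed ρ z) ∣ Nat.card I := card_dvd_of_le inf_le_left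
    have hone : Nat.card I = 4 ∧ Nat.card ↥(I ⊓ fixed ρ z) = 1 := by
      have := Nat.le_of_dvd (by omega) hd
      unfold Nat.ModEq at h
      rcases hI24 with h2 | h2 <;> rw [h2] at h hd hlt this ⊢ <;>
        (generalize Nat.card ↥(I ⊓ fixed ρ z) = m at * ; interval_cases m <;> omega)
    have hfa : fixed ρ z ≤ fixed ρ a := by
      intro v hv
      rw [← ker_phi hsq, MonoidHom.mem_ker, ← mem_bot, ← (card_eq_one.1 hone.2)]
      refine ⟨⟨v, rfl⟩, ?_⟩
      show ρ z (phi ρ a v) = phi ρ a v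
      rw [← hcomm, (mem_fixed ρ).1 hv]
    have heq : I = fixed ρ a := eq_of_le_of_card_ge (range_le_fixed hsq ρ ha) (by
      have : Nat.card (fixed ρ a) = 4 := by rw [hone.1] at hmul; omega
      rw [this, hone.1])
    have : fixed ρ z ≤ I ⊓ fixed ρ z := le_inf (heq ▸ hfa) le_rfl
    have := Subgroup.card_le_of_le this
    omega
  have hinf : I ≤ fixed ρ a ⊓ fixed ρ z := le_inf (range_le_fixed hsq ρ ha) hIfix
  have hd : Nat.card ↥(fixed ρ a ⊓ fixed ρ z) ∣ 4 := hz4 ▸ card_dvd_of_le inf_le_right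
  have hne : Nat.card ↥(fixed ρ a ⊓ fixed ρ z) ≠ 4 := fun e =>
    hnot hIfix (inf_eq_right.1 (eq_of_le_of_card_ge inf_le_right (by rw [e, hz4])))
  have h2 := Subgroup.card_le_of_le hinf
  have h3 : Nat.card ↥(fixed ρ a ⊓ fixed ρ z) ≤ 4 := Nat.le_of_dvd (by norm_num) hd
  have h4 : Nat.card ↥(fixed ρ a ⊓ fixed ρ z) = 2 ∧ Nat.card I = 2 := by
    generalize Nat.card ↥(fixed ρ a ⊓ fixed ρ z) = m at *
    interval_cases m <;> omega
  exact ⟨h4.2, (eq_of_le_of_card_ge hinf (by rw [h4.1, h4.2])).symm⟩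

/-- A product of commuting elements of order 3 with disjoint fixed point spaces of order 4 has no
fixed point. -/
theorem fixed_mul_eq_bot {z z' : G} (hz : z ^ 3 = 1) (hz' : z' ^ 3 = 1) (hc : z * z' = z' * z)
    (h4 : Nat.card (fixed ρ z) = 4) (h4' : Nat.card (fixed ρ z') = 4)
    (hne : z' ≠ z) (hne' : z' ≠ z ^ 2) :
    fixed ρ (z * z') = ⊥ := by
  have hzz : ∀ v, ρ z (ρ z' v) = ρ z' (ρ z v) := fun v => by
    rw [← MulAut.mul_apply, ← map_mul, hc, map_mul, MulAut.mul_apply]
  have hinv : ∀ v ∈ fixed ρ z, ρ z' v ∈ fixed ρ z := fun v hv => by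
    rw [mem_fixed, hzz, (mem_fixed ρ).1 hv]
  have hdis : fixed ρ z ⊓ fixed ρ z' = ⊥ := by
    rw [← card_eq_one]
    have h := card_modEq ρ hz' (fixed ρ z) hinv
    rw [h4] at h
    have hd : Nat.card ↥(fixed ρ z ⊓ fixed ρ z') ∣ 4 := h4 ▸ card_dvd_of_le inf_le_left
    have hle := Nat.le_of_dvd (by norm_num) hd
    unfold Nat.ModEq at h
    suffices Nat.card ↥(fixed ρ z ⊓ fixed ρ z') ≠ 4 by
      generalize Nat.card ↥(fixed ρ z ⊓ fixed ρ z') = m at *; interval_cases m <;> omega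
    intro e
    -- equal fixed spaces: the two elements agree up to inversion
    have hzf : ∀ c ∈ fixed ρ z, ρ z' c = c := fun c hc' =>
      (inf_eq_left.1 (eq_of_le_of_card_ge inf_le_left (by rw [e, h4])) hc' : c ∈ fixed ρ z')
    obtain ⟨v, hv⟩ : ∃ v, v ∉ fixed ρ z := by
      by_contra hcon; push Not at hcon
      have : fixed ρ z = ⊤ := eq_top_iff.2 fun x _ => hcon x
      rw [this, card_top, hV] at h4; norm_num at h4
    -- some `d ∈ {z^i z'}` sends `v` into `v * fixed z`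
    have hfeq : fixed ρ z = fixed ρ z' :=
      eq_of_le_of_card_ge hzf (by rw [h4, h4'])
    have hq4 : (fixed ρ z).index = 4 := by
      have := (fixed ρ z).card_mul_index; rw [h4, hV] at this; omega
    let q := QuotientGroup.mk' (fixed ρ z)
    have hvz : v * ρ z v ∉ fixed ρ z := fun hm => hv (by
      have h1 := (mem_fixed ρ).1 hm
      rw [map_mul] at h1
      have h2 : ρ z (ρ z v) = v := mul_left_cancel (h1.trans (mul_comm _ _))
      have h3 := congrArg (ρ z) h2
      rw [pow_three_apply ρ hz] at h3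
      exact h3.symm)
    have hvzz : v * ρ z (ρ z v) ∉ fixed ρ z := fun hm => hvz (by
      have h1 := (mem_fixed ρ).1 hm
      rw [map_mul, pow_three_apply ρ hz, mul_comm] at h1
      rw [h1]; exact hm)
    have hzv : ρ z v * ρ z (ρ z v) ∉ fixed ρ z := fun hm => hvz (by
      have h1 := (mem_fixed ρ).1 hm
      rw [map_mul, pow_three_apply ρ hz] at h1
      have h2 : v = ρ z v := mul_left_cancel (h1.trans (mul_comm _ _))
      rw [← h2, hsq]; exact one_mem _)
    have key : ∃ d : G, d ^ 3 = 1 ∧ d ≠ 1 ∧ (∀ c ∈ fixed ρ z, ρ d c = c) ∧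
        ρ d v * v ∈ fixed ρ z := by
      have hcomm : Commute z z' := hc
      have hpick : ρ z' v * v ∈ fixed ρ z ∨ ρ z' v * ρ z v ∈ fixed ρ z ∨
          ρ z' v * ρ z (ρ z v) ∈ fixed ρ z := by
        by_contra hcon; push Not at hcon
        obtain ⟨c1, c2, c3⟩ := hcon
        have hnew : ρ z' v ∉ fixed ρ z := fun hm => hv (by
          rw [hfeq] at hm ⊢
          have h1 : ρ z' (ρ z' v) = ρ z' v := (mem_fixed ρ).1 hm
          exact (mem_fixed ρ).2 ((ρ z').injective h1))
        -- five classes in a quotient of order four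
        let F : Fin 5 → V := ![1, v, ρ z v, ρ z (ρ z v), ρ z' v]
        have hinj : Function.Injective (fun i => q (F i)) := by
          intro i j hij
          have hm : F i * F j ∈ fixed ρ z := by
            have := QuotientGroup.eq.1 hij
            rwa [inv_eq_of_mul_eq_one_right (hsq (F i))] at this
          have z1 : ρ z v ∉ fixed ρ z := fun hm => hv (by
            have h1 : ρ z (ρ z v) = ρ z v := (mem_fixed ρ).1 hm
            exact (mem_fixed ρ).2 ((ρ z).injective h1))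
          have z2 : ρ z (ρ z v) ∉ fixed ρ z := fun hm => z1 (by
            exact (mem_fixed ρ).2 ((ρ z).injective ((mem_fixed ρ).1 hm)))
          fin_cases i <;> fin_cases j <;> first | rfl | (exfalso; revert hm; simp [F, mul_comm, hv, z1, z2, hnew, hvz, hvzz, hzv, c1, c2, c3])
          all_goals simp_all [mul_comm]
        haveI : Finite (V ⧸ fixed ρ z) := inferInstance
        have := Nat.card_le_card_of_injective _ hinj
        rw [Nat.card_eq_fintype_card, Fintype.card_fin, ← Subgroup.index_eq_card, hq4] at this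
        omega
      rcases hpick with hp | hp | hp
      · exact ⟨z', hz', fun e1 => by rw [e1] at h4'; rw [show fixed ρ 1 = ⊤ from eq_top_iff.2 fun x _ => by
          rw [mem_fixed, map_one, MulAut.one_apply], card_top, hV] at h4'; norm_num at h4', hzf, hp⟩
      · refine ⟨z ^ 2 * z', ?_, fun e1 => hne ?_, fun c hc' => ?_, ?_⟩
        · rw [(hcomm.pow_left 2).mul_pow, ← pow_mul, mul_comm, pow_mul, hz, hz', one_pow, one_mul]
        · calc z' = z * (z ^ 2 * z') := by rw [← mul_assoc, ← pow_succ', hz, one_mul]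
            _ = z := by rw [e1, mul_one]
        · rw [map_mul, MulAut.mul_apply, hzf c hc', map_pow, pow_two, MulAut.mul_apply,
            (mem_fixed ρ).1 hc', (mem_fixed ρ).1 hc']
        · have h1 : ρ z (ρ z (ρ z' v * ρ z v)) ∈ fixed ρ z := by
            rw [(mem_fixed ρ).1 ((mem_fixed ρ).2 ((mem_fixed ρ).1 hp)), (mem_fixed ρ).1 hp]; exact hp
          rw [map_mul, MulAut.mul_apply, map_pow, pow_two, MulAut.mul_apply]
          rwa [map_mul, map_mul, pow_three_apply ρ hz] at h1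
      · refine ⟨z * z', ?_, fun e1 => hne' ?_, fun c hc' => ?_, ?_⟩
        · rw [hcomm.mul_pow, hz, hz', one_mul]
        · calc z' = z ^ 2 * (z * z') := by rw [← mul_assoc, ← pow_succ, hz, one_mul]
            _ = z ^ 2 := by rw [e1, mul_one]
        · rw [map_mul, MulAut.mul_apply, hzf c hc', (mem_fixed ρ).1 hc']
        · have h1 : ρ z (ρ z' v * ρ z (ρ z v)) ∈ fixed ρ z := by
            rw [(mem_fixed ρ).1 hp]; exact hp
          rw [map_mul, MulAut.mul_apply]
          rwa [map_mul, pow_three_apply ρ hz] at h1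
    obtain ⟨d, hd3, hd1, hdc, hdv⟩ := key
    set c := ρ d v * v with hcdef
    have hdv' : ρ d v = v * c := by
      rw [hcdef, mul_comm (ρ d v), ← mul_assoc, hsq, one_mul]
    have h3 := pow_three_apply ρ hd3 v
    simp only [hdv', map_mul, hdc c hdv] at h3
    have hc1 : c = 1 := by
      have e3 : v * c * c * c = v := h3
      rw [mul_assoc v c c, hsq, mul_one] at e3
      simpa using e3
    have hvd : v ∈ fixed ρ d := (mem_fixed ρ).2 (by rw [hdv', hc1, mul_one])
    have hled : fixed ρ z ≤ fixed ρ d := hdc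
    rcases fixed_card ρ hρ hV hd3 hd1 with h1 | h1
    · have := Subgroup.card_le_of_le hled; omega
    · exact hv ((eq_of_le_of_card_ge hled (by rw [h1, h4])) ▸ hvd)
  -- the two fixed spaces span
  rw [eq_bot_iff]
  intro w hw
  have hw' : ρ z (ρ z' w) = w := by rw [← MulAut.mul_apply, ← map_mul]; exact hw
  let m : fixed ρ z × fixed ρ z' → V := fun x => (x.1 : V) * x.2
  have hm : Function.Injective m := by
    rintro ⟨⟨a, ha⟩, ⟨b, hb⟩⟩ ⟨⟨a', ha'⟩, ⟨b', hb'⟩⟩ h
    have h' : a * b = a' * b' := h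
    have e1 : a'⁻¹ * a = b' * b⁻¹ := by
      calc a'⁻¹ * a = a'⁻¹ * (a * b) * b⁻¹ := by group
        _ = b' * b⁻¹ := by rw [h']; group
    have hmem : a'⁻¹ * a ∈ fixed ρ z ⊓ fixed ρ z' :=
      ⟨(fixed ρ z).mul_mem ((fixed ρ z).inv_mem ha') ha,
        e1 ▸ (fixed ρ z').mul_mem hb' ((fixed ρ z').inv_mem hb)⟩
    rw [hdis, mem_bot] at hmem
    obtain rfl : a' = a := inv_mul_eq_one.1 hmem
    obtain rfl : b = b' := mul_left_cancel h'
    rfl
  have hbij := (Nat.bijective_iff_injective_and_card m).2 ⟨hm, by rw [Nat.card_prod, h4, h4', hV]⟩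
  obtain ⟨⟨⟨c, hc1⟩, ⟨c', hc2⟩⟩, rfl⟩ := hbij.2 w
  have h2 : m (⟨ρ z' c, hinv c hc1⟩, ⟨ρ z c', by rw [mem_fixed, ← hzz, (mem_fixed ρ).1 hc2]⟩) =
      m (⟨c, hc1⟩, ⟨c', hc2⟩) := by
    show ρ z' c * ρ z c' = c * c'
    calc ρ z' c * ρ z c' = ρ z (ρ z' (c * c')) := by
          rw [map_mul, map_mul, (mem_fixed ρ).1 hc2, hzz, (mem_fixed ρ).1 hc1]
      _ = c * c' := hw'
  have h3 := hm h2
  simp only [Prod.mk.injEq, Subtype.mk.injEq] at h3
  have hc0 : c ∈ fixed ρ z ⊓ fixed ρ z' := ⟨hc1, h3.1⟩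
  have hc0' : c' ∈ fixed ρ z ⊓ fixed ρ z' := ⟨h3.2, hc2⟩
  rw [hdis, mem_bot] at hc0 hc0'
  exact mem_bot.2 (by show c * c' = 1; rw [hc0, hc0', one_mul])

/-- Two commuting fixed-point-free elements of order 3 have a product with fixed points. -/
theorem exists_fixed {z z' : G} (hz : z ^ 3 = 1) (hz' : z' ^ 3 = 1) (hc : z * z' = z' * z)
    (hb : fixed ρ z = ⊥) (hb' : fixed ρ z' = ⊥) :
    fixed ρ (z * z') ≠ ⊥ ∨ fixed ρ (z ^ 2 * z') ≠ ⊥ := by
  by_contra hcon
  push Not at hcon
  obtain ⟨h1, h2⟩ := hcon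
  have hcomm : Commute z z' := hc
  let g : Fin 3 × Fin 3 → G := fun i => z ^ (i.1 : ℕ) * z' ^ (i.2 : ℕ)
  have hz2 : fixed ρ (z ^ 2) = ⊥ := by
    rw [eq_bot_iff]; intro x hx
    have hx' : ρ z (ρ z x) = x := by rw [← MulAut.mul_apply, ← map_mul, ← pow_two]; exact hx
    rw [← hb, mem_fixed]
    conv_lhs => rw [← hx']
    rw [pow_three_apply ρ hz]
  have hz'2 : fixed ρ (z' ^ 2) = ⊥ := by
    rw [eq_bot_iff]; intro x hx
    have hx' : ρ z' (ρ z' x) = x := by rw [← MulAut.mul_apply, ← map_mul, ← pow_two]; exact hx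
    rw [← hb', mem_fixed]
    conv_lhs => rw [← hx']
    rw [pow_three_apply ρ hz']
  have inv_fix : ∀ {k : G}, k ^ 3 = 1 → fixed ρ k = ⊥ → fixed ρ (k ^ 2) = ⊥ := fun {k} hk hkb => by
    rw [eq_bot_iff]; intro x hx
    have hx' : ρ k (ρ k x) = x := by rw [← MulAut.mul_apply, ← map_mul, ← pow_two]; exact hx
    rw [← hkb, mem_fixed]
    conv_lhs => rw [← hx']
    rw [pow_three_apply ρ hk]
  have h22 : fixed ρ (z ^ 2 * z' ^ 2) = ⊥ := by
    rw [← hcomm.mul_pow]; exact inv_fix (by rw [hcomm.mul_pow, hz, hz', one_mul]) h1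
  have h12 : fixed ρ (z * z' ^ 2) = ⊥ := by
    have e : z * z' ^ 2 = (z ^ 2 * z') ^ 2 := by
      rw [(hcomm.pow_left 2).mul_pow, ← pow_mul, pow_succ z 3, hz, one_mul]
    rw [e]
    exact inv_fix (by rw [(hcomm.pow_left 2).mul_pow, ← pow_mul, mul_comm, pow_mul, hz, hz', one_pow, one_mul]) h2
  have hfree : ∀ i j : Fin 3, (i, j) ≠ (0, 0) → fixed ρ (z ^ (i : ℕ) * z' ^ (j : ℕ)) = ⊥ := by
    intro i j hij
    fin_cases i <;> fin_cases j <;> simp_all
  have hmul : ∀ i j : Fin 3 × Fin 3, g i * g j = g (i.1 + j.1, i.2 + j.2) := by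
    intro i j
    have e : ∀ (k : G), k ^ 3 = 1 → ∀ a b : Fin 3, k ^ (a : ℕ) * k ^ (b : ℕ) = k ^ ((a + b : Fin 3) : ℕ) :=
      fun k hk a b => by
        rw [← pow_add, Fin.val_add]
        conv_lhs => rw [← Nat.mod_add_div ((a : ℕ) + b) 3]
        rw [pow_add, pow_mul, hk, one_pow, mul_one]
    show z ^ _ * z' ^ _ * (z ^ _ * z' ^ _) = _
    rw [mul_assoc, ← mul_assoc (z' ^ _), ← ((hcomm.pow_pow _ _).eq), mul_assoc, ← mul_assoc,
      e z hz, e z' hz']
  have key : ∀ v : V, v ≠ 1 → Function.Injective (fun i => ρ (g i) v) := by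
    intro v hv i j hij
    by_contra hne
    have h0 : (i.1 - j.1, i.2 - j.2) ≠ ((0, 0) : Fin 3 × Fin 3) := fun e => hne (by
      simp only [Prod.mk.injEq, sub_eq_zero] at e; exact Prod.ext e.1 e.2)
    have hf : ρ (g i) v ∈ fixed ρ (g (i.1 - j.1, i.2 - j.2)) := by
      rw [mem_fixed]
      conv_lhs => rw [show ρ (g i) v = ρ (g j) v from hij]
      rw [← MulAut.mul_apply, ← map_mul, hmul]
      simp [g, Prod.mk.eta]
    rw [hfree _ _ h0, mem_bot] at hf
    exact hv (by simpa using hf)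
  haveI : Fintype V := Fintype.ofFinite V
  classical
  obtain ⟨v, hv⟩ : ∃ v : V, v ≠ 1 := by
    by_contra hh; push Not at hh
    have : Nat.card V ≤ 1 := (Finite.card_le_one_iff_subsingleton).2 ⟨fun a b => by rw [hh a, hh b]⟩
    omega
  let O : Finset V := Finset.univ.image fun i => ρ (g i) v
  obtain ⟨w, hw1, hwO⟩ : ∃ w : V, w ≠ 1 ∧ w ∉ O := by
    by_contra hh; push Not at hh
    have : (Finset.univ : Finset V) ⊆ insert 1 O := fun x _ => by
      by_cases hx : x = 1 <;> simp [hx]; exact hh x hx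
    have := (Finset.card_le_card this).trans ((Finset.card_insert_le _ _).trans
      (Nat.add_le_add_right Finset.card_image_le 1))
    simp [← Nat.card_eq_fintype_card, hV, Nat.card_fin] at this
  let P : Finset V := Finset.univ.image fun i => ρ (g i) w
  have hd : Disjoint O P := by
    rw [Finset.disjoint_left]
    intro x hx hx'
    simp only [O, P, Finset.mem_image, Finset.mem_univ, true_and] at hx hx'
    obtain ⟨i, rfl⟩ := hx
    obtain ⟨j, hj⟩ := hx'
    refine hwO (Finset.mem_image.2 ⟨(-j.1 + i.1, -j.2 + i.2), Finset.mem_univ _, ?_⟩)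
    rw [← hmul (-j.1, -j.2) i, map_mul, MulAut.mul_apply, ← hj, ← MulAut.mul_apply, ← map_mul, hmul]
    simp [g]
  have h18 := Finset.card_le_univ (O ∪ P)
  rw [Finset.card_union_of_disjoint hd, Finset.card_image_of_injective _ (key v hv),
    Finset.card_image_of_injective _ (key w hw1)] at h18
  simp [← Nat.card_eq_fintype_card, hV, Nat.card_fin] at h18

end Cfsg.Agent.GroupStructure3.RankFourTop
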