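import Cfsg.Agent.GroupStructure3.RankFourTop.Lifts
import Cfsg.Prelude.Def_CaseTheorems

/-!
# An extension of a four-dimensional space by the symmetric group of degree six has rank at least five
-/

set_option autoImplicit false
set_option linter.all false

namespace Cfsg.Agent.GroupStructure3.RankFourTop

open Subgroup Equiv
open scoped IsMulCommutative

variable {G Y : Type*} [Group G] [Group Y] [Finite Y] {π : Y →* G} [IsMulCommutative π.ker]
  {ρ : G →* MulAut π.ker} (hS : Setting π ρ)
include hS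

theorem card_fixed_conj (g z : G) : Nat.card (fixed ρ (g * z * g⁻¹)) = Nat.card (fixed ρ z) := by
  refine Nat.card_congr ((Equiv.subtypeEquiv (ρ g).toEquiv fun v => ?_).symm)
  show v ∈ fixed ρ z ↔ ρ g v ∈ fixed ρ (g * z * g⁻¹)
  rw [mem_fixed, mem_fixed, ← MulAut.mul_apply, ← map_mul, inv_mul_cancel_right, map_mul, MulAut.mul_apply]
  exact ⟨fun h => by rw [h], fun h => (ρ g).injective h⟩

theorem fixed_eq_bot_conj {g z : G} (h : fixed ρ z = ⊥) : fixed ρ (g * z * g⁻¹) = ⊥ := by
  rw [← card_eq_one, card_fixed_conj hS, card_eq_one, h]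

theorem main_of_config {a b c s z : G} (ha : a * a = 1) (ha1 : a ≠ 1) (hs : s ^ 3 = 1)
    (hsf : fixed ρ s = ⊥) (hsab : s * a * s⁻¹ = b) (hsbc : s * b * s⁻¹ = c) (hsca : s * c * s⁻¹ = a)
    (hz : z ^ 3 = 1) (hz4 : Nat.card (fixed ρ z) = 4) (haz : a * z = z * a)
    (hbz : b * z * b⁻¹ = z ^ 2) (hab : b * a = a * b)
    (h8 : 8 ≤ Nat.card (closure ({a, b, c} : Set G))) :
    ¬ Cfsg.SectionalPRankLE 2 4 Y := by
  intro hrank
  haveI : Finite G := Finite.of_surjective π hS.surj
  have cj : ∀ x y : G, s * x * s⁻¹ * (s * y * s⁻¹) = s * (x * y) * s⁻¹ := fun x y => conj_mul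
  set z₁ := s * z * s⁻¹ with hz₁
  set z₂ := s * z₁ * s⁻¹ with hz₂
  have hb : b * b = 1 := by rw [← hsab, cj, ha, mul_one, mul_inv_cancel]
  have hc : c * c = 1 := by rw [← hsbc, cj, hb, mul_one, mul_inv_cancel]
  have hb1 : b ≠ 1 := fun e => ha1 (conj_eq_one_iff.1 (hsab.trans e))
  have hc1 : c ≠ 1 := fun e => hb1 (conj_eq_one_iff.1 (hsbc.trans e))
  have hbc : c * b = b * c := by rw [← hsbc]; conv_lhs => arg 2; rw [← hsab]
                                 conv_rhs => arg 1; rw [← hsab]
                                 rw [cj, cj, hab]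
  have hca : a * c = c * a := by rw [← hsca]; conv_lhs => arg 2; rw [← hsbc]
                                 conv_rhs => arg 1; rw [← hsbc]
                                 rw [cj, cj, hbc]
  have hz13 : z₁ ^ 3 = 1 := by rw [hz₁, conj_pow, hz, mul_one, mul_inv_cancel]
  have hz23 : z₂ ^ 3 = 1 := by rw [hz₂, conj_pow, hz13, mul_one, mul_inv_cancel]
  have hz14 : Nat.card (fixed ρ z₁) = 4 := by rw [hz₁, card_fixed_conj hS, hz4]
  have hz24 : Nat.card (fixed ρ z₂) = 4 := by rw [hz₂, card_fixed_conj hS, hz14]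
  have hbz₁ : b * z₁ = z₁ * b := by rw [← hsab, hz₁, cj, cj, haz]
  have hcz₁ : c * z₁ * c⁻¹ = z₁ ^ 2 := by
    rw [hz₁, conj_pow, ← hbz, ← hsbc]; group
  have hcz₂ : c * z₂ = z₂ * c := by rw [← hsbc, hz₂, cj, cj, hbz₁]
  have haz₂ : a * z₂ * a⁻¹ = z₂ ^ 2 := by
    rw [hz₂, conj_pow, ← hcz₁, ← hsca]; group
  -- the centres
  set W : Subgroup π.ker := (phi ρ a).range ⊔ (phi ρ b).range ⊔ (phi ρ c).range with hW
  set U : Subgroup Y := W.map π.ker.subtype with hU
  have hUeq : U = centre ρ a ⊔ centre ρ b ⊔ centre ρ c := by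
    rw [hU, hW, Subgroup.map_sup, Subgroup.map_sup]; rfl
  have hfix : ∀ {y : Y}, π y = a ∨ π y = b ∨ π y = c → ∀ u ∈ U, y * u * y⁻¹ = u := by
    intro y hy u hu
    have hle : U ≤ (MulAut.conj y).toMonoidHom.eqLocus (MonoidHom.id Y) := by
      rw [hUeq]
      refine sup_le (sup_le ?_ ?_) ?_ <;> intro v hv
      · rcases hy with e | e | e
        · exact centre_fixed hS ha ha1 hz hz4 haz rfl e hv
        · exact centre_fixed hS ha ha1 hz hz4 haz hab e hv
        · exact centre_fixed hS ha ha1 hz hz4 haz hca.symm e hv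
      · rcases hy with e | e | e
        · exact centre_fixed hS hb hb1 hz13 hz14 hbz₁ hab.symm e hv
        · exact centre_fixed hS hb hb1 hz13 hz14 hbz₁ rfl e hv
        · exact centre_fixed hS hb hb1 hz13 hz14 hbz₁ hbc e hv
      · rcases hy with e | e | e
        · exact centre_fixed hS hc hc1 hz23 hz24 hcz₂ hca e hv
        · exact centre_fixed hS hc hc1 hz23 hz24 hcz₂ hbc.symm e hv
        · exact centre_fixed hS hc hc1 hz23 hz24 hcz₂ rfl e hv
    exact hle hu
  have hW4 : Nat.card W = 4 := by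
    have hWa : W ≤ fixed ρ a := by
      intro w hw
      obtain ⟨A, hA⟩ := hS.surj a
      exact (mem_fixed ρ).2 (Subtype.ext (by
        rw [← hA, hS.apply]; exact hfix (Or.inl hA) _ ⟨w, hw, rfl⟩))
    have h8a : Nat.card (fixed ρ a) = 8 := by
      have h := card_range_mul (sq' hS) ρ hS.card a
      rw [(transvection (sq' hS) ρ hS.inj hS.card ha ha1 hz hz4 haz).1] at h
      omega
    have hinvs : ∀ w ∈ W, ρ s w ∈ W := by
      have key : ∀ x x' : G, s * x * s⁻¹ = x' → ∀ v, ρ s (phi ρ x v) = phi ρ x' (ρ s v) := by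
        intro x x' e v
        rw [phi_apply, phi_apply, map_mul, ← MulAut.mul_apply, ← MulAut.mul_apply, ← map_mul, ← map_mul, ← e,
          inv_mul_cancel_right]
      have hle : W ≤ W.comap (ρ s).toMonoidHom := by
        refine sup_le (sup_le ?_ ?_) ?_ <;> rintro _ ⟨v, rfl⟩
        · rw [mem_comap]; show ρ s (phi ρ _ v) ∈ W; rw [key a b hsab v]; exact mem_sup_left (mem_sup_right ⟨_, rfl⟩)
        · rw [mem_comap]; show ρ s (phi ρ _ v) ∈ W; rw [key b c hsbc v]; exact mem_sup_right ⟨_, rfl⟩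
        · rw [mem_comap]; show ρ s (phi ρ _ v) ∈ W; rw [key c a hsca v]; exact mem_sup_left (mem_sup_left ⟨_, rfl⟩)
      exact fun w hw => hle hw
    have hm := card_modEq ρ hs W hinvs
    rw [hsf, inf_bot_eq, card_bot] at hm
    have h2 : 2 ≤ Nat.card W := by
      rw [← (transvection (sq' hS) ρ hS.inj hS.card ha ha1 hz hz4 haz).1]
      exact card_le_of_le (le_sup_left.trans le_sup_left)
    have hd : Nat.card W ∣ 8 := h8a ▸ card_dvd_of_le hWa
    have hle := Nat.le_of_dvd (by norm_num) hd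
    unfold Nat.ModEq at hm
    generalize Nat.card W = m at *
    interval_cases m <;> omega
  have hU4 : Nat.card U = 4 := by rw [hU, card_map_of_injective π.ker.subtype_injective, hW4]
  -- the elementary section
  obtain ⟨A, hA⟩ := hS.surj a
  obtain ⟨B, hB⟩ := hS.surj b
  obtain ⟨C, hC⟩ := hS.surj c
  set k : Set Y := (π.ker : Set Y) ∪ {A, B, C} with hk
  set H := closure k with hH
  have hkerH : π.ker ≤ H := fun v hv => subset_closure (Or.inl hv)
  have hUH : U ≤ H := (map_subtype_le W).trans hkerH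
  have hcentral : ∀ y ∈ k, ∀ u ∈ U, y * u * y⁻¹ = u := by
    rintro y (hy | hy) u hu
    · rw [hS.comm y hy u (map_subtype_le W hu), mul_inv_cancel_right]
    · simp only [Set.mem_insert_iff, Set.mem_singleton_iff] at hy
      rcases hy with rfl | rfl | rfl
      exacts [hfix (Or.inl hA) u hu, hfix (Or.inr (Or.inl hB)) u hu, hfix (Or.inr (Or.inr hC)) u hu]
  haveI hN : (U.subgroupOf H).Normal := by
    refine ⟨fun u hu y => ?_⟩
    have hle : H ≤ centralizer (U : Set Y) := (closure_le _).2 fun y hy => mem_centralizer_iff.2 fun u hu => by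
      calc u * y = (y * u * y⁻¹) * y := by rw [hcentral y hy u hu]
        _ = y * u := by group
    rw [mem_subgroupOf] at hu ⊢
    rw [coe_mul, coe_mul, coe_inv, ← mem_centralizer_iff.1 (hle y.2) _ hu, mul_inv_cancel_right]
    exact hu
  let q : H →* H ⧸ U.subgroupOf H := QuotientGroup.mk' _
  have hq : ∀ (x : Y) (hx : x ∈ H), x ∈ U → q ⟨x, hx⟩ = 1 := fun x hx hxU =>
    (QuotientGroup.eq_one_iff _).2 hxU
  have hker : ∀ v ∈ π.ker, ∀ y ∈ k, v * y * v⁻¹ * y⁻¹ ∈ U := by
    intro v hv y hy
    rcases hy with hy | hy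
    · rw [hS.comm v hv y hy, mul_inv_cancel_right, mul_inv_cancel]; exact one_mem _
    · have hi : v⁻¹ = v := inv_eq_of_mul_eq_one_right (hS.sq v hv)
      have e : v * y * v⁻¹ * y⁻¹ = v * (y * v * y⁻¹) := by rw [hi]; group
      rw [e, hUeq]
      simp only [Set.mem_insert_iff, Set.mem_singleton_iff] at hy
      rcases hy with rfl | rfl | rfl
      exacts [mem_sup_left (mem_sup_left (comm_mem_centre hS hA hv)),
        mem_sup_left (mem_sup_right (comm_mem_centre hS hB hv)),
        mem_sup_right (comm_mem_centre hS hC hv)]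
  obtain ⟨hAA, hAB⟩ := pair hS ha ha1 hz hz4 haz hbz hab hA hB
  obtain ⟨hBB, hBC⟩ := pair hS hb hb1 hz13 hz14 hbz₁ hcz₁ hbc hB hC
  obtain ⟨hCC, hCA⟩ := pair hS hc hc1 hz23 hz24 hcz₂ haz₂ hca hC hA
  have la : centre ρ a ≤ U := hUeq ▸ le_sup_left.trans le_sup_left
  have lb : centre ρ b ≤ U := hUeq ▸ le_sup_right.trans le_sup_left
  have lc : centre ρ c ≤ U := hUeq ▸ le_sup_right
  have flip : ∀ x y : Y, x * y * x⁻¹ * y⁻¹ ∈ U → y * x * y⁻¹ * x⁻¹ ∈ U := fun x y h => by
    simpa [mul_inv_rev, mul_assoc] using inv_mem h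
  have hgen : ∀ x ∈ k, ∀ y ∈ k, x * y * x⁻¹ * y⁻¹ ∈ U := by
    intro x hx y hy
    rcases hx with hx' | hx'
    · exact hker x hx' y hy
    rcases hy with hy' | hy'
    · exact flip _ _ (hker y hy' x (Or.inr hx'))
    simp only [Set.mem_insert_iff, Set.mem_singleton_iff] at hx' hy'
    rcases hx' with rfl | rfl | rfl <;> rcases hy' with rfl | rfl | rfl
    exacts [by simp, sup_le la lb hAB, flip _ _ (sup_le lc la hCA), flip _ _ (sup_le la lb hAB), by simp,
      sup_le lb lc hBC, sup_le lc la hCA, flip _ _ (sup_le lb lc hBC), by simp]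
  have hsqk : ∀ x ∈ k, x * x ∈ U := by
    rintro x (hx | hx)
    · rw [hS.sq x hx]; exact one_mem _
    · simp only [Set.mem_insert_iff, Set.mem_singleton_iff] at hx
      rcases hx with rfl | rfl | rfl
      exacts [la hAA, lb hBB, lc hCC]
  have htop : closure (q '' (H.subtype ⁻¹' k)) = ⊤ := by
    rw [← MonoidHom.map_closure, show closure (H.subtype ⁻¹' k) = ⊤ from closure_closure_coe_preimage,
      Subgroup.map_top_of_surjective _ (QuotientGroup.mk'_surjective _)]
  haveI hcommq : IsMulCommutative (closure (q '' (H.subtype ⁻¹' k))) := by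
    refine isMulCommutative_closure ?_
    rintro _ ⟨x, hx, rfl⟩ _ ⟨y, hy, rfl⟩
    have h := hq _ (x * y * x⁻¹ * y⁻¹).2 (hgen x hx y hy)
    simp only [Subtype.coe_eta, map_mul, map_inv, mul_inv_eq_one] at h
    exact mul_inv_eq_iff_eq_mul.1 h
  have hcomm : ∀ x y : H ⧸ U.subgroupOf H, x * y = y * x := fun x y => by
    have := hcommq.is_comm.comm ⟨x, htop ▸ mem_top x⟩ ⟨y, htop ▸ mem_top y⟩
    exact congrArg Subtype.val this
  have hexp : ∀ x : H ⧸ U.subgroupOf H, x ^ 2 = 1 := by
    intro x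
    have hx : x ∈ closure (q '' (H.subtype ⁻¹' k)) := htop ▸ mem_top x
    induction hx using closure_induction with
    | mem x hx => obtain ⟨y, hy, rfl⟩ := hx; rw [pow_two, ← map_mul]; exact hq _ (y * y).2 (hsqk y hy)
    | one => simp
    | mul x y _ _ h1 h2 => rw [(show Commute x y from hcomm x y).mul_pow, h1, h2, one_mul]
    | inv x _ h => rw [inv_pow, h, inv_one]
  have hle := hrank H (U.subgroupOf H) ⊤ ⟨⟨fun a b => Subtype.ext (hcomm _ _)⟩⟩ (fun a _ => hexp a)
  rw [card_top, ← Subgroup.index_eq_card] at hle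
  -- orders
  have hH128 : 128 ≤ Nat.card H := by
    have h1 : (π.ker.subgroupOf H).index = Nat.card (H.map π) := Subgroup.relIndex_ker H π
    have h2 : Nat.card (π.ker.subgroupOf H) = 16 := by
      rw [Nat.card_congr (subgroupOfEquivOfLe hkerH).toEquiv, hS.card]
    have h3 : 8 ≤ Nat.card (H.map π) := by
      refine h8.trans (card_le_of_le ((closure_le _).2 ?_))
      intro g hg
      simp only [Set.mem_insert_iff, Set.mem_singleton_iff] at hg
      rcases hg with rfl | rfl | rfl
      exacts [⟨A, subset_closure (Or.inr (Or.inl rfl)), hA⟩,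
        ⟨B, subset_closure (Or.inr (Or.inr (Or.inl rfl))), hB⟩,
        ⟨C, subset_closure (Or.inr (Or.inr (Or.inr rfl))), hC⟩]
    rw [← (π.ker.subgroupOf H).card_mul_index, h1, h2]
    omega
  have hUc : Nat.card (U.subgroupOf H) = 4 := by
    rw [Nat.card_congr (subgroupOfEquivOfLe hUH).toEquiv, hU4]
  have hmul := (U.subgroupOf H).card_mul_index
  rw [hUc] at hmul
  omega

omit hS

theorem card_closure_ge {K : Type*} [Group K] [Finite K] [DecidableEq K] {a b c : K}
    (h : ({1, a, b, c, a * b, a * c, b * c, a * b * c} : Finset K).card = 8) :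
    8 ≤ Nat.card (closure ({a, b, c} : Set K)) := by
  have ha : a ∈ closure ({a, b, c} : Set K) := subset_closure (by simp)
  have hb : b ∈ closure ({a, b, c} : Set K) := subset_closure (by simp)
  have hc : c ∈ closure ({a, b, c} : Set K) := subset_closure (by simp)
  rw [← h, ← SetLike.coe_sort_coe, Nat.card_coe_set_eq, ← Set.ncard_coe_finset]
  refine Set.ncard_le_ncard ?_ (Set.toFinite _)
  intro x hx
  simp only [Finset.coe_insert, Finset.coe_singleton, Set.mem_insert_iff, Set.mem_singleton_iff] at hx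
  rcases hx with rfl | rfl | rfl | rfl | rfl | rfl | rfl | rfl
  exacts [one_mem _, ha, hb, hc, mul_mem ha hb, mul_mem ha hc, mul_mem hb hc, mul_mem (mul_mem ha hb) hc]

section Six

variable {Y : Type*} [Group Y] [Finite Y] {π : Y →* Perm (Fin 6)} [IsMulCommutative π.ker]
  {ρ : Perm (Fin 6) →* MulAut π.ker}

theorem not_rank_four (hS : Setting π ρ) : ¬ Cfsg.SectionalPRankLE 2 4 Y := by
  set u : Perm (Fin 6) := swap 0 1 * swap 1 2 with hu
  set u' : Perm (Fin 6) := swap 3 4 * swap 4 5 with hu'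
  have hu3 : u ^ 3 = 1 := by decide +kernel
  have hu'3 : u' ^ 3 = 1 := by decide +kernel
  have huu : u * u' = u' * u := by decide +kernel
  have hcu : (swap 0 3 * swap 1 4 * swap 2 5) * u * (swap 0 3 * swap 1 4 * swap 2 5)⁻¹ = u' := by decide +kernel
  rcases fixed_card ρ hS.inj hS.card hu3 (by decide +kernel) with h | h
  · -- 3-cycles have no fixed points
    have hb : fixed ρ u = ⊥ := card_eq_one.1 h
    have hb' : fixed ρ u' = ⊥ := hcu ▸ fixed_eq_bot_conj hS hb
    have hne : fixed ρ (u * u') ≠ ⊥ := by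
      rcases exists_fixed (sq' hS) ρ hS.inj hS.card hu3 hu'3 huu hb hb' with h' | h'
      · exact h'
      · intro e
        apply h'
        rw [show u ^ 2 * u' = swap 1 2 * (u * u') * (swap 1 2)⁻¹ from by decide +kernel]
        exact fixed_eq_bot_conj hS e
    have h4 : Nat.card (fixed ρ (u * u')) = 4 :=
      (fixed_card ρ hS.inj hS.card (by decide +kernel) (by decide +kernel)).resolve_left fun e => hne (card_eq_one.1 e)
    refine main_of_config hS (a := swap 0 1 * swap 2 3 * swap 4 5) (b := swap 0 1 * swap 2 4 * swap 3 5)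
      (c := swap 0 1 * swap 2 5 * swap 3 4) (s := u')
      (z := (swap 1 2 * swap 2 5 * swap 5 4 * swap 4 3) * (u * u') * (swap 1 2 * swap 2 5 * swap 5 4 * swap 4 3)⁻¹)
      (by decide +kernel) (by decide +kernel) hu'3 hb' (by decide +kernel) (by decide +kernel) (by decide +kernel) (by decide +kernel) ?_ (by decide +kernel) (by decide +kernel)
      (by decide +kernel) (card_closure_ge (by decide +kernel))
    rw [card_fixed_conj hS, h4]
  · -- 3-cycles have fixed points
    have h' : Nat.card (fixed ρ u') = 4 := by rw [← hcu, card_fixed_conj hS, h]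
    have hb : fixed ρ (u * u') = ⊥ :=
      fixed_mul_eq_bot (sq' hS) ρ hS.inj hS.card hu3 hu'3 huu h h' (by decide +kernel) (by decide +kernel)
    refine main_of_config hS (a := swap 0 1) (b := swap 2 3) (c := swap 4 5)
      (s := (swap 1 2 * swap 2 4 * swap 4 3) * (u * u') * (swap 1 2 * swap 2 4 * swap 4 3)⁻¹)
      (z := (swap 0 2 * swap 2 4 * swap 1 3) * u * (swap 0 2 * swap 2 4 * swap 1 3)⁻¹)
      (by decide +kernel) (by decide +kernel) (by decide +kernel) (fixed_eq_bot_conj hS hb) (by decide +kernel) (by decide +kernel) (by decide +kernel)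
      (by decide +kernel) ?_ (by decide +kernel) (by decide +kernel) (by decide +kernel) (card_closure_ge (by decide +kernel))
    rw [card_fixed_conj hS, h]

end Six

end Cfsg.Agent.GroupStructure3.RankFourTop
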