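import Cfsg.Agent.GroupStructure3.RankFourTop.Action

/-!
# Lifts of transvections to an extension by a four-dimensional space
-/

set_option autoImplicit false
set_option linter.all false

namespace Cfsg.Agent.GroupStructure3.RankFourTop

open Subgroup
open scoped IsMulCommutative

variable {G Y : Type*} [Group G] [Group Y] [Finite Y] (π : Y →* G)

/-- An element normalising a cyclic group of order 3 lifts to one normalising a lift. -/
theorem exists_lift (hπ : Function.Surjective π) (hsq : ∀ v ∈ π.ker, v * v = 1)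
    {Z : Y} (hZ : Z ^ 3 = 1) (g : G) (e : ℕ) (h : g * π Z * g⁻¹ = π Z ^ e) :
    ∃ y, π y = g ∧ y * Z * y⁻¹ = Z ^ e := by
  obtain ⟨y, rfl⟩ := hπ g
  set T := Z ^ e with hT
  have hT3 : T ^ 3 = 1 := by rw [hT, ← pow_mul, mul_comm, pow_mul, hZ, one_pow]
  set w := y * Z * y⁻¹ * T⁻¹ with hw
  have hwk : w ∈ π.ker := by
    rw [MonoidHom.mem_ker, hw, hT]; simp only [map_mul, map_inv, map_pow, h, mul_inv_cancel]
  have hwT : (w * T) ^ 3 = 1 := by
    rw [hw, inv_mul_cancel_right, conj_pow, hZ, mul_one, mul_inv_cancel]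
  set v := T * w * T⁻¹ with hv
  have hvk : v ∈ π.ker := (inferInstance : π.ker.Normal).conj_mem _ hwk _
  have hinv : ∀ x ∈ π.ker, x⁻¹ = x := fun x hx => inv_eq_of_mul_eq_one_right (hsq x hx)
  have hTvT : T * v * T⁻¹ ∈ π.ker := (inferInstance : π.ker.Normal).conj_mem _ hvk _
  have key : v * T * v⁻¹ = w * T := by
    have h3 : w * v * (T * v * T⁻¹) = 1 := by
      have : w * v * (T * v * T⁻¹) * T ^ 3 = (w * T) ^ 3 := by
        rw [hv, pow_succ, pow_succ, pow_succ, pow_zero, one_mul, pow_succ, pow_succ, pow_succ, pow_zero,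
          one_mul]
        group
      rwa [hwT, hT3, mul_one] at this
    have h4 : v * (T * v * T⁻¹) = w := by
      calc v * (T * v * T⁻¹) = w⁻¹ * (w * v * (T * v * T⁻¹)) := by group
        _ = w := by rw [h3, mul_one, hinv w hwk]
    rw [hinv v hvk, ← h4]; group
  refine ⟨v⁻¹ * y, ?_, ?_⟩
  · rw [map_mul, map_inv, MonoidHom.mem_ker.1 hvk, inv_one, one_mul]
  · calc v⁻¹ * y * Z * (v⁻¹ * y)⁻¹ = v⁻¹ * (w * T) * v := by rw [hw]; group
      _ = T := by rw [← key]; group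

variable {π}

/-- Setting: the kernel is the space, the action is faithful. -/
structure Setting (π : Y →* G) (ρ : G →* MulAut π.ker) : Prop where
  surj : Function.Surjective π
  comm : ∀ v ∈ π.ker, ∀ w ∈ π.ker, v * w = w * v
  sq : ∀ v ∈ π.ker, v * v = 1
  card : Nat.card π.ker = 16
  inj : Function.Injective ρ
  apply : ∀ (y : Y) (v : π.ker), (ρ (π y) v : Y) = y * v * y⁻¹

variable {ρ : G →* MulAut π.ker}

/-- `[V, a]` as a subgroup of the extension. -/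
def centre [IsMulCommutative π.ker] (ρ : G →* MulAut π.ker) (a : G) : Subgroup Y :=
  (phi (V := π.ker) ρ a).range.map π.ker.subtype

variable [IsMulCommutative π.ker] (hS : Setting π ρ)
include hS

theorem sq' (v : π.ker) : v * v = 1 := Subtype.ext (hS.sq v v.2)

theorem exists_three {z : G} (hz : z ^ 3 = 1) : ∃ Z : Y, π Z = z ∧ Z ^ 3 = 1 := by
  obtain ⟨y, rfl⟩ := hS.surj z
  refine ⟨y ^ 4, by rw [map_pow, pow_succ, hz, one_mul], ?_⟩
  have h := hS.sq (y ^ 3) (by rw [MonoidHom.mem_ker, map_pow, hz])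
  rw [← pow_mul, show 4 * 3 = 3 + 3 + (3 + 3) from rfl, pow_add, pow_add, h, one_mul]

theorem centre_le (a : G) : centre ρ a ≤ π.ker := map_subtype_le _

theorem conj_mem_centre {a g : G} (hc : g * a = a * g) {y : Y} (hy : π y = g) {u : Y}
    (hu : u ∈ centre ρ a) : y * u * y⁻¹ ∈ centre ρ a := by
  obtain ⟨u, ⟨v, rfl⟩, rfl⟩ := hu
  refine ⟨ρ g (phi ρ a v), ⟨ρ g v, ?_⟩, ?_⟩
  · rw [phi_apply, phi_apply, map_mul, ← MulAut.mul_apply, ← MulAut.mul_apply, ← map_mul, ← map_mul, hc]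
  · rw [coe_subtype, ← hy, hS.apply]

theorem card_centre {a z : G} (ha : a * a = 1) (ha1 : a ≠ 1) (hz : z ^ 3 = 1)
    (hz4 : Nat.card (fixed ρ z) = 4) (haz : a * z = z * a) : Nat.card (centre ρ a) = 2 := by
  rw [centre, card_map_of_injective π.ker.subtype_injective,
    (transvection (sq' hS) ρ hS.inj hS.card ha ha1 hz hz4 haz).1]

theorem centre_fixed {a b z : G} (ha : a * a = 1) (ha1 : a ≠ 1) (hz : z ^ 3 = 1)
    (hz4 : Nat.card (fixed ρ z) = 4) (haz : a * z = z * a) (hab : b * a = a * b) {y : Y} (hy : π y = b)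
    {u : Y} (hu : u ∈ centre ρ a) : y * u * y⁻¹ = u := by
  have h2 := card_centre hS ha ha1 hz hz4 haz
  rcases eq_or_ne u 1 with rfl | h1
  · simp
  have h := conj_mem_centre hS hab hy hu
  by_contra hne
  have hsub : ({1, u, y * u * y⁻¹} : Set Y) ⊆ (centre ρ a : Set Y) := by
    simp [Set.insert_subset_iff, one_mem, hu, h]
  have hn1 : y * u * y⁻¹ ≠ 1 := fun e => h1 (by
    calc u = y⁻¹ * (y * u * y⁻¹) * y := by group
      _ = 1 := by rw [e]; group)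
  have := Set.ncard_le_ncard hsub (Set.toFinite _)
  rw [Set.ncard_eq_three.2 ⟨1, u, y * u * y⁻¹, h1.symm, hn1.symm, fun e => hne e.symm, rfl⟩,
    ← Nat.card_coe_set_eq] at this
  change 3 ≤ Nat.card (centre ρ a) at this
  omega

theorem mem_centre_of_fixed {a z : G} (ha : a * a = 1) (ha1 : a ≠ 1) (hz : z ^ 3 = 1)
    (hz4 : Nat.card (fixed ρ z) = 4) (haz : a * z = z * a) {A Z c : Y} (hA : π A = a) (hZ : π Z = z)
    (hc : c ∈ π.ker) (h1 : A * c * A⁻¹ = c) (h2 : Z * c * Z⁻¹ = c) : c ∈ centre ρ a := by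
  have : (⟨c, hc⟩ : π.ker) ∈ (phi ρ a).range := by
    rw [← (transvection (sq' hS) ρ hS.inj hS.card ha ha1 hz hz4 haz).2]
    exact ⟨Subtype.ext (by rw [← hA]; exact (hS.apply A ⟨c, hc⟩).trans h1),
      Subtype.ext (by rw [← hZ]; exact (hS.apply Z ⟨c, hc⟩).trans h2)⟩
  exact ⟨_, this, rfl⟩

theorem comm_mem_centre {a : G} {A v : Y} (hA : π A = a) (hv : v ∈ π.ker) :
    v * (A * v * A⁻¹) ∈ centre ρ a := by
  refine ⟨phi ρ a ⟨v, hv⟩, ⟨_, rfl⟩, ?_⟩
  rw [coe_subtype, phi_apply, Subgroup.coe_mul, ← hA, hS.apply]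

/-- A transvection centralising an element of order 3 with fixed points: its square, and its commutator
with a commuting involution inverting that element, lie in the centres. -/
theorem pair {a b z : G} (ha : a * a = 1) (ha1 : a ≠ 1) (hz : z ^ 3 = 1)
    (hz4 : Nat.card (fixed ρ z) = 4) (haz : a * z = z * a) (hbz : b * z * b⁻¹ = z ^ 2)
    (hab : b * a = a * b) {A B : Y} (hA : π A = a) (hB : π B = b) :
    A * A ∈ centre ρ a ∧ A * B * A⁻¹ * B⁻¹ ∈ centre ρ a ⊔ centre ρ b := by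
  obtain ⟨Z, hZ, hZ3⟩ := exists_three hS hz
  obtain ⟨A₀, hA₀, hA₀Z⟩ := exists_lift π hS.surj hS.sq hZ3 a 1 (by rw [hZ, pow_one, haz, mul_inv_cancel_right])
  obtain ⟨B₀, hB₀, hB₀Z⟩ := exists_lift π hS.surj hS.sq hZ3 b 2 (by rw [hZ, hbz])
  rw [pow_one] at hA₀Z
  have hcZ : A₀ * Z = Z * A₀ := by
    conv_rhs => rw [← hA₀Z]
    group
  have hk2 : A₀ * A₀ ∈ π.ker := by rw [MonoidHom.mem_ker, map_mul, hA₀, ha]
  have hsq0 : A₀ * A₀ ∈ centre ρ a := mem_centre_of_fixed hS ha ha1 hz hz4 haz hA₀ hZ hk2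
    (by group) (by
      calc Z * (A₀ * A₀) * Z⁻¹ = (Z * A₀) * A₀ * Z⁻¹ := by group
        _ = (A₀ * Z) * A₀ * Z⁻¹ := by rw [hcZ]
        _ = A₀ * (Z * A₀) * Z⁻¹ := by group
        _ = A₀ * (A₀ * Z) * Z⁻¹ := by rw [hcZ]
        _ = A₀ * A₀ := by group)
  have hpair0 : A₀⁻¹ * (B₀ * A₀ * B₀⁻¹) ∈ centre ρ a := by
    set A₁ := B₀ * A₀ * B₀⁻¹ with hA1
    set c := A₀⁻¹ * A₁ with hc
    have hck : c ∈ π.ker := by
      rw [MonoidHom.mem_ker, hc, hA1, map_mul, map_inv, map_mul, map_mul, map_inv, hA₀, hB₀, hab]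
      group
    have hA1Z : A₁ * Z = Z * A₁ := by
      have e : B₀ * (A₀ * Z ^ 2) * B₀⁻¹ = B₀ * (Z ^ 2 * A₀) * B₀⁻¹ := by
        rw [(Commute.pow_right hcZ 2).eq]
      have e2 : B₀ * Z ^ 2 * B₀⁻¹ = Z := by
        rw [← conj_pow, hB₀Z, ← pow_mul, show 2 * 2 = 3 + 1 from rfl, pow_succ, hZ3, one_mul]
      calc A₁ * Z = B₀ * (A₀ * Z ^ 2) * B₀⁻¹ := by conv_lhs => rw [← e2, hA1]
                                                   group
        _ = B₀ * (Z ^ 2 * A₀) * B₀⁻¹ := e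
        _ = (B₀ * Z ^ 2 * B₀⁻¹) * A₁ := by rw [hA1]; group
        _ = Z * A₁ := by rw [e2]
    refine mem_centre_of_fixed hS ha ha1 hz hz4 haz hA₀ hZ hck ?_ ?_
    · -- both lifts have the same square
      have h1 : A₁ * A₁ = A₀ * A₀ := by
        rw [hA1, conj_mul]
        exact centre_fixed hS ha ha1 hz hz4 haz hab hB₀ hsq0
      have h2 : c * A₀ * c = A₀ := by
        refine mul_left_cancel (a := A₀) ?_
        rw [← h1, hc]; group
      calc A₀ * c * A₀⁻¹ = c⁻¹ * (c * A₀ * c) * A₀⁻¹ := by group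
        _ = c := by rw [h2, mul_inv_cancel_right, inv_eq_of_mul_eq_one_right (hS.sq c hck)]
    · calc Z * c * Z⁻¹ = (Z * A₀⁻¹) * A₁ * Z⁻¹ := by rw [hc]; group
        _ = A₀⁻¹ * (Z * A₁) * Z⁻¹ := by rw [← (Commute.inv_left hcZ).eq]; group
        _ = c := by rw [← hA1Z, hc]; group
  set U := centre ρ a ⊔ centre ρ b with hU
  have hva : A * A₀⁻¹ ∈ π.ker := by rw [MonoidHom.mem_ker, map_mul, map_inv, hA, hA₀, mul_inv_cancel]
  have hvb : B * B₀⁻¹ ∈ π.ker := by rw [MonoidHom.mem_ker, map_mul, map_inv, hB, hB₀, mul_inv_cancel]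
  refine ⟨?_, ?_⟩
  · set v := A * A₀⁻¹ with hv
    have : A * A = (v * (A₀ * v * A₀⁻¹)) * (A₀ * A₀) := by rw [hv]; group
    rw [this]
    exact mul_mem (comm_mem_centre hS hA₀ hva) hsq0
  · set v := A * A₀⁻¹ with hv
    set w := B * B₀⁻¹ with hw
    have hinv : ∀ x ∈ π.ker, x⁻¹ = x := fun x hx => inv_eq_of_mul_eq_one_right (hS.sq x hx)
    have hA₀w : A₀ * w * A₀⁻¹ ∈ π.ker := (inferInstance : π.ker.Normal).conj_mem _ hvb _
    have hB₀v : B₀ * v * B₀⁻¹ ∈ π.ker := (inferInstance : π.ker.Normal).conj_mem _ hva _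
    have hcomm0 : A₀ * B₀ * A₀⁻¹ * B₀⁻¹ ∈ centre ρ a := by
      have h : (A₀ * B₀ * A₀⁻¹ * B₀⁻¹)⁻¹ ∈ centre ρ a := by
        have e : (A₀ * B₀ * A₀⁻¹ * B₀⁻¹)⁻¹ = A₀ * (A₀⁻¹ * (B₀ * A₀ * B₀⁻¹)) * A₀⁻¹ := by group
        rw [e]
        exact conj_mem_centre hS rfl hA₀ hpair0
      simpa using inv_mem h
    set k := A₀ * B₀ * A₀⁻¹ * B₀⁻¹ with hk
    have hkk : k ∈ π.ker := centre_le hS a hcomm0
    have e : A * B * A⁻¹ * B⁻¹ = (w * (A₀ * w * A₀⁻¹)) * k * (v * (B₀ * v * B₀⁻¹)) := by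
      have hwB : B = w * B₀ := by rw [hw]; group
      have hvA : A = v * A₀ := by rw [hv]; group
      calc A * B * A⁻¹ * B⁻¹
          = v * (A₀ * w * A₀⁻¹) * k * (B₀ * v⁻¹ * B₀⁻¹) * w⁻¹ := by rw [hwB, hvA, hk]; group
        _ = v * (A₀ * w * A₀⁻¹) * k * ((B₀ * v * B₀⁻¹) * w) := by
            rw [hinv v hva, hinv w hvb]; group
        _ = (w * (A₀ * w * A₀⁻¹)) * k * (v * (B₀ * v * B₀⁻¹)) := by
            have := congrArg Subtype.val
              (show (⟨v, hva⟩ : π.ker) * ⟨_, hA₀w⟩ * ⟨k, hkk⟩ * (⟨_, hB₀v⟩ * ⟨w, hvb⟩) =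
                ⟨w, hvb⟩ * ⟨_, hA₀w⟩ * ⟨k, hkk⟩ * (⟨v, hva⟩ * ⟨_, hB₀v⟩) by ac_rfl)
            exact this
    rw [e]
    exact mul_mem (mul_mem (mem_sup_left (comm_mem_centre hS hA₀ hvb)) (mem_sup_left hcomm0))
      (mem_sup_right (comm_mem_centre hS hB₀ hva))

end Cfsg.Agent.GroupStructure3.RankFourTop
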