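import Cfsg.Agent.Lib.SmallSimple.AltEightSubgroups
import Cfsg.Agent.GroupStructure3.FrobNonsolvable
import Cfsg.Agent.Lib.Cores.Basic
import Cfsg.Agent.S0205

/-!
# Nonsolvable subgroups of the alternating group of degree eight with no normal 2-subgroup
-/

set_option autoImplicit false
set_option linter.all false

namespace Cfsg.Agent.GroupStructure3.RankFourTop

open Subgroup Equiv Equiv.Perm

universe u

theorem isSolvable_sixty {M : Type u} [Group M] [Finite M] (h : Nat.card M ∣ 60) (h60 : Nat.card M ≠ 60) :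
    Group.IsSolvable M := by
  have hd : Nat.card M ∈ Nat.divisors 60 := Nat.mem_divisors.2 ⟨h, by norm_num⟩
  rw [show Nat.divisors 60 = {1, 2, 3, 4, 5, 6, 10, 12, 15, 20, 30, 60} by decide] at hd
  simp only [Finset.mem_insert, Finset.mem_singleton] at hd
  have h2 : Nat.Prime 2 := Nat.prime_two
  have h3 : Nat.Prime 3 := Nat.prime_three
  have h5 : Nat.Prime 5 := by norm_num
  rcases hd with e | e | e | e | e | e | e | e | e | e | e | e
  · exact Characters.burnside_pa_qb h2 h3 (a := 0) (b := 0) (by rw [e]; rfl)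
  · exact Characters.burnside_pa_qb h2 h3 (a := 1) (b := 0) (by rw [e]; rfl)
  · exact Characters.burnside_pa_qb h2 h3 (a := 0) (b := 1) (by rw [e]; rfl)
  · exact Characters.burnside_pa_qb h2 h3 (a := 2) (b := 0) (by rw [e]; rfl)
  · exact Characters.burnside_pa_qb h2 h5 (a := 0) (b := 1) (by rw [e]; rfl)
  · exact Characters.burnside_pa_qb h2 h3 (a := 1) (b := 1) (by rw [e]; rfl)
  · exact Characters.burnside_pa_qb h2 h5 (a := 1) (b := 1) (by rw [e]; rfl)
  · exact Characters.burnside_pa_qb h2 h3 (a := 2) (b := 1) (by rw [e]; rfl)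
  · exact Characters.burnside_pa_qb h3 h5 (a := 1) (b := 1) (by rw [e]; rfl)
  · exact Characters.burnside_pa_qb h2 h5 (a := 2) (b := 1) (by rw [e]; rfl)
  · refine GroupStructure3.FrobStruct.isSolvable_small (Or.inl ?_)
    rw [e, show (30 : ℕ) = 2 * 15 from rfl, Nat.squarefree_mul (by norm_num)]
    exact ⟨h2.squarefree, by rw [show (15 : ℕ) = 3 * 5 from rfl, Nat.squarefree_mul (by norm_num)]
                             exact ⟨h3.squarefree, h5.squarefree⟩⟩
  · exact absurd e h60

/-- The centralisers in the symmetric group of degree eight of the elements of odd prime order, other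
than 3-cycles, have small solvable orders. -/
theorem centralizer_card {g : Perm (Fin 8)} {p : ℕ} (hp : p.Prime) (hp2 : p ≠ 2) (hg : orderOf g = p) :
    (p = 3 ∧ g.cycleType = {3}) ∨ (p = 3 ∧ Nat.card (centralizer {g}) = 36) ∨
    (p = 5 ∧ Nat.card (centralizer {g}) = 30) ∨ (p = 7 ∧ Nat.card (centralizer {g}) = 7) := by
  obtain ⟨n, hn⟩ := cycleType_prime_order (hg ▸ hp)
  rw [hg] at hn
  have hsum : (n + 1) * p ≤ 8 := by
    have h := g.support.card_le_univ
    rw [← sum_cycleType, hn, Multiset.sum_replicate, smul_eq_mul, Fintype.card_fin] at h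
    exact h
  have h2 := hp.two_le
  have hp8 : p ≤ 8 := le_trans (Nat.le_mul_of_pos_left p n.succ_pos) hsum
  have hn4 : n ≤ 3 := by nlinarith
  have hcard := nat_card_centralizer g
  rw [hn, Fintype.card_fin] at hcard
  interval_cases p
  · omega
  · interval_cases n
    · exact Or.inl ⟨rfl, by rw [hn]; rfl⟩
    · exact Or.inr (Or.inl ⟨rfl, by rw [hcard]; rfl⟩)
    all_goals omega
  · exact absurd hp (by norm_num)
  · interval_cases n
    · exact Or.inr (Or.inr (Or.inl ⟨rfl, by rw [hcard]; rfl⟩))
    all_goals omega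
  · exact absurd hp (by norm_num)
  · interval_cases n
    · exact Or.inr (Or.inr (Or.inr ⟨rfl, by rw [hcard]; rfl⟩))
    all_goals omega
  · exact absurd hp (by norm_num)

theorem dvd_factor {d : ℕ} (h : d ∣ 2 ^ 2 * 3 ^ 2) {M : Type u} [Group M] [Finite M] (hM : Nat.card M = d) :
    Group.IsSolvable M := by
  obtain ⟨a, b, ha, hb, rfl⟩ := Nat.dvd_mul.1 h
  obtain ⟨i, -, rfl⟩ := (Nat.dvd_prime_pow Nat.prime_two).1 ha
  obtain ⟨j, -, hj⟩ := (Nat.dvd_prime_pow Nat.prime_three).1 hb
  exact Characters.burnside_pa_qb Nat.prime_two Nat.prime_three (by rw [hM, hj])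

variable {Q : Type u} [Group Q] [Finite Q] {f : Q →* Perm (Fin 8)} (hf : Function.Injective f)
  (hns : ¬ Group.IsSolvable Q) (hd : Nat.card Q ∣ 20160)
include hf hns hd

theorem exists_five_or_seven : ∃ y : Q, orderOf y = 5 ∨ orderOf y = 7 := by
  by_contra h
  push Not at h
  have h5 : ¬ 5 ∣ Nat.card Q := fun hdv => by
    haveI : Fact (Nat.Prime 5) := ⟨by norm_num⟩
    obtain ⟨y, hy⟩ := exists_prime_orderOf_dvd_card' 5 hdv
    exact (h y).1 hy
  have h7 : ¬ 7 ∣ Nat.card Q := fun hdv => by
    haveI : Fact (Nat.Prime 7) := ⟨by norm_num⟩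
    obtain ⟨y, hy⟩ := exists_prime_orderOf_dvd_card' 7 hdv
    exact (h y).2 hy
  have hco : (Nat.card Q).Coprime 35 := by
    rw [show (35 : ℕ) = 5 * 7 from rfl]
    exact Nat.Coprime.mul_right ((Nat.Prime.coprime_iff_not_dvd (by norm_num)).2 h5).symm
      ((Nat.Prime.coprime_iff_not_dvd (by norm_num)).2 h7).symm
  have h' : Nat.card Q ∣ 2 ^ 6 * 3 ^ 2 := hco.dvd_of_dvd_mul_right (by simpa using hd)
  obtain ⟨a, b, ha, hb, hab⟩ := Nat.dvd_mul.1 h'
  obtain ⟨i, -, rfl⟩ := (Nat.dvd_prime_pow Nat.prime_two).1 ha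
  obtain ⟨j, -, rfl⟩ := (Nat.dvd_prime_pow Nat.prime_three).1 hb
  exact hns (Characters.burnside_pa_qb Nat.prime_two Nat.prime_three hab.symm)

/-- A normal subgroup of odd prime power order is generated by a 3-cycle. -/
theorem normal_pGroup (R : Subgroup Q) [R.Normal] {p : ℕ} (hp : p.Prime) (hp2 : p ≠ 2)
    (hR : IsPGroup p R) (hne : R ≠ ⊥) :
    Nat.card R = 3 ∧ ∃ x ∈ R, (f x).cycleType = {3} := by
  haveI := Fact.mk hp
  obtain ⟨j, hj⟩ := IsPGroup.iff_card.1 hR
  have hjd : p ^ j ∣ 20160 := hj ▸ (card_subgroup_dvd_card R).trans hd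
  have hj0 : j ≠ 0 := by rintro rfl; exact hne (card_eq_one.1 (by rw [hj, pow_zero]))
  have hpj : (p = 3 ∧ j = 2) ∨ j = 1 := by
    by_contra hcon
    push Not at hcon
    have h2 : 2 ≤ j := by omega
    have hsq : p ^ 2 ∣ 20160 := (pow_dvd_pow p h2).trans hjd
    have hp142 : p < 142 := by
      have := Nat.le_of_dvd (by norm_num) hsq
      rw [pow_two] at this; nlinarith
    have h24 : p ∣ 24 :=
      SmallSimple.AltEightSubgroups.square_dvd p (Finset.mem_range.2 hp142) (by rwa [← pow_two])
    have hp3 : p = 3 := by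
      rcases (Nat.Prime.dvd_mul hp).1 (show p ∣ 2 ^ 3 * 3 by simpa using h24) with h | h
      · exact absurd ((Nat.prime_dvd_prime_iff_eq hp Nat.prime_two).1 (hp.dvd_of_dvd_pow h)) hp2
      · exact (Nat.prime_dvd_prime_iff_eq hp Nat.prime_three).1 h
    subst hp3
    have h3 : 3 ≤ j := by have := hcon.1 rfl; omega
    exact absurd ((pow_dvd_pow 3 h3).trans hjd) (by norm_num)
  rcases hpj with ⟨rfl, rfl⟩ | rfl
  · -- order 9: centralised by an element of order 5 or 7
    exfalso
    obtain ⟨y, hy⟩ := exists_five_or_seven hf hns hd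
    classical
    haveI : Fintype R := Fintype.ofFinite _
    set q := orderOf y with hq
    have hqp : q.Prime := by rcases hy with e | e <;> rw [e] <;> norm_num
    let τ : Perm R := (MulAut.conjNormal y : MulAut R).toEquiv
    have hτ1 : τ = 1 := by
      by_contra hne1
      haveI := Fact.mk hqp
      have hτ : orderOf τ = q := by
        refine orderOf_eq_prime ?_ hne1
        have : (MulAut.conjNormal y : MulAut R) ^ q = 1 := by rw [← map_pow, hq, pow_orderOf_eq_one, map_one]
        have e := congrArg (MulAut.toPerm R) this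
        rwa [map_pow, map_one] at e
      obtain ⟨n, hn⟩ := cycleType_prime_order (hτ ▸ hqp)
      have hsupp := τ.sum_cycleType
      rw [hn, hτ, Multiset.sum_replicate, smul_eq_mul] at hsupp
      set W : Subgroup R := (MulAut.conjNormal y : MulAut R).toMonoidHom.eqLocus (MonoidHom.id R) with hW
      have hfix : Nat.card W + τ.support.card = Nat.card R := by
        have e : Nat.card W = (τ.supportᶜ).card := by
          rw [← SetLike.coe_sort_coe, Nat.card_coe_set_eq, ← Set.ncard_coe_finset]
          congr 1; ext v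
          simp only [Finset.coe_compl, Set.mem_compl_iff, Finset.mem_coe, Equiv.Perm.mem_support, not_not]
          rfl
        rw [e, Finset.card_compl, ← Nat.card_eq_fintype_card]
        have := τ.support.card_le_univ
        rw [← Nat.card_eq_fintype_card] at this
        omega
      have hdW := card_subgroup_dvd_card W
      have hpos : 0 < Nat.card W := Nat.card_pos
      rw [hj, ← hsupp] at hfix
      rw [hj] at hdW
      rw [show (3 : ℕ) ^ 2 = 9 from rfl] at hdW hfix
      have hn1 : n ≤ 1 := by
        rcases hy with e | e <;> rw [e] at hfix <;> omega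
      generalize Nat.card W = w at *
      have hw : w = 4 ∨ w = 2 := by
        rcases hy with e | e <;> rw [e] at hfix <;> interval_cases n <;> omega
      rcases hw with rfl | rfl <;> revert hdW <;> decide
    have hRc : ∀ r ∈ R, f y * f r = f r * f y := by
      intro r hr
      have := congrArg Subtype.val (Equiv.ext_iff.1 hτ1 ⟨r, hr⟩)
      change ((MulAut.conjNormal y : MulAut R) ⟨r, hr⟩ : Q) = r at this
      rw [MulAut.conjNormal_apply] at this
      rw [← map_mul, ← map_mul]
      congr 1
      conv_rhs => rw [← this]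
      group
    have h9 : 9 ∣ Nat.card (centralizer {f y}) := by
      have hle : R.map f ≤ centralizer {f y} := by
        rintro _ ⟨r, hr, rfl⟩
        exact mem_centralizer_singleton_iff.2 (hRc r hr).symm
      have := card_dvd_of_le hle
      rw [card_map_of_injective hf, hj] at this
      simpa using this
    have ho : orderOf (f y) = q := by rw [orderOf_injective f hf]
    rcases centralizer_card hqp (by rcases hy with e | e <;> omega) ho with ⟨e, -⟩ | ⟨e, -⟩ | ⟨-, e⟩ | ⟨-, e⟩
    · rcases hy with e' | e' <;> omega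
    · rcases hy with e' | e' <;> omega
    · rw [e] at h9; norm_num at h9
    · rw [e] at h9; norm_num at h9
  · rw [pow_one] at hj
    obtain ⟨⟨x, hxR⟩, hx⟩ := exists_prime_orderOf_dvd_card' (G := R) p (hj ▸ dvd_rfl)
    have hxp : orderOf x = p := by rw [← hx, orderOf_mk]
    have hfx : orderOf (f x) = p := by rw [orderOf_injective f hf, hxp]
    have hzx : zpowers x = R := eq_of_le_of_card_ge (zpowers_le.2 hxR) (by rw [Nat.card_zpowers, hxp, hj])
    -- the centraliser of `R` is not solvable
    have hC : ¬ Group.IsSolvable (centralizer (R : Set Q)) := by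
      intro hs
      refine hns ?_
      haveI : IsCyclic R := isCyclic_of_prime_card hj
      have hab : ∀ a b : MulAut R, a * b = b * a := fun a b => MulEquiv.ext fun r => by
        obtain ⟨m, hm⟩ := MonoidHom.map_cyclic (a.toMonoidHom)
        obtain ⟨k, hk⟩ := MonoidHom.map_cyclic (b.toMonoidHom)
        show a (b r) = b (a r)
        change ∀ g, a g = g ^ m at hm
        change ∀ g, b g = g ^ k at hk
        rw [hm r, hk r, map_zpow, map_zpow, hm r, hk r, ← zpow_mul, ← zpow_mul, mul_comm]
      letI : CommGroup (MulAut R) := { (inferInstance : Group (MulAut R)) with mul_comm := hab }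
      haveI := hs
      refine solvable_of_ker_le_range (centralizer (R : Set Q)).subtype
        (MulAut.conjNormal : Q →* MulAut R) fun q hq => ⟨⟨q, mem_centralizer_iff.2 fun r hr => ?_⟩, rfl⟩
      have := congrArg (fun φ : MulAut R => ((φ ⟨r, hr⟩ : R) : Q)) (MonoidHom.mem_ker.1 hq)
      simp only [MulAut.conjNormal_apply, MulAut.one_apply] at this
      calc r * q = (q * r * q⁻¹) * q := by rw [this]
        _ = q * r := by group
    have hle : (centralizer (R : Set Q)).map f ≤ centralizer {f x} := by
      rintro _ ⟨c, hc, rfl⟩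
      rw [mem_centralizer_singleton_iff, ← map_mul, ← map_mul]
      exact congrArg f (mem_centralizer_iff.1 hc x hxR).symm
    have hdvd := card_dvd_of_le hle
    rw [card_map_of_injective hf] at hdvd
    rcases centralizer_card hp hp2 hfx with ⟨rfl, e⟩ | ⟨-, e⟩ | ⟨-, e⟩ | ⟨-, e⟩
    · exact ⟨hj, x, hxR, e⟩
    · exact absurd (dvd_factor (d := Nat.card (centralizer (R : Set Q))) (by rw [e] at hdvd; simpa using hdvd) rfl) hC
    · exact absurd (isSolvable_sixty ((e ▸ hdvd).trans (by norm_num))
        (fun h60 => by rw [e, h60] at hdvd; norm_num at hdvd)) hC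
    · refine absurd ?_ hC
      rw [e] at hdvd
      rcases (Nat.dvd_prime (by norm_num)).1 hdvd with h | h
      · exact isSolvable_sixty (by rw [h]; norm_num) (by rw [h]; norm_num)
      · haveI := Fact.mk (by norm_num : Nat.Prime 7)
        haveI : IsCyclic (centralizer (R : Set Q)) := isCyclic_of_prime_card h
        letI := IsCyclic.commGroup (α := centralizer (R : Set Q))
        infer_instance

omit hf hns hd

/-- The conclusion for a subgroup with a normal subgroup of odd order. -/
theorem odd_case (hf : Function.Injective f) (hns : ¬ Group.IsSolvable Q) (hd : Nat.card Q ∣ 20160)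
    (heven : ∀ q, sign (f q) = 1) (hO : Cfsg.pPrimeCore 2 Q ≠ ⊥) :
    Nat.card (Cfsg.pCore 3 Q) = 3 ∧ (Nonempty (Q ⧸ Cfsg.pCore 3 Q ≃* alternatingGroup (Fin 5)) ∨
      Nonempty (Q ⧸ Cfsg.pCore 3 Q ≃* Perm (Fin 5))) := by
  haveI : Fact (Nat.Prime 2) := ⟨Nat.prime_two⟩
  haveI : Fact (Nat.Prime 3) := ⟨Nat.prime_three⟩
  obtain ⟨M, hMn, hMO, hM0, hmin⟩ := Hall.exists_minimal_normal _ hO
  haveI := hMn
  haveI : Group.IsSolvable M := by
    refine S0205.result ?_
    rw [← Nat.not_even_iff_odd, even_iff_two_dvd, ← Nat.prime_two.coprime_iff_not_dvd]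
    exact Nat.Coprime.coprime_dvd_right (card_dvd_of_le hMO)
      (Cores.pPrimeCore_card_coprime (p := 2)).symm
  obtain ⟨p, hp, hpM, hMp, -⟩ := Hall.minimal_normal_isElementaryAbelian hM0 hmin
  have hp2 : p ≠ 2 := by
    rintro rfl
    exact (Nat.prime_two.coprime_iff_not_dvd.1
      (Nat.Coprime.coprime_dvd_right (card_dvd_of_le hMO) (Cores.pPrimeCore_card_coprime (p := 2)).symm)) hpM
  obtain ⟨hM3, x, hxM, hx⟩ := normal_pGroup hf hns hd M hp hp2 hMp hM0
  have hcore : Cfsg.pCore 3 Q = M := by
    have hMle : M ≤ Cfsg.pCore 3 Q := Cores.le_pCore (IsPGroup.of_card (n := 1) (by rw [hM3]; rfl))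
    refine (eq_of_le_of_card_ge hMle ?_).symm
    have := normal_pGroup hf hns hd (Cfsg.pCore 3 Q) Nat.prime_three (by norm_num)
      (Cores.pCore_isPGroup 3) (fun h => hM0 (le_bot_iff.1 (h ▸ hMle)))
    rw [this.1, hM3]
  -- the action on the five fixed points
  classical
  set g := f x with hg
  have hsupp : g.support.card = 3 := by rw [← sum_cycleType, hx]; rfl
  have hxo : orderOf x = 3 := by
    rw [← orderOf_injective f hf, ← hg, ← lcm_cycleType, hx]; rfl
  have hzx : zpowers x = M := eq_of_le_of_card_ge (zpowers_le.2 hxM) (by rw [Nat.card_zpowers, hxo, hM3])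
  have hinv : ∀ (q : Q) (a : Fin 8), g a = a → g (f q a) = f q a := by
    intro q a ha
    have hm : q⁻¹ * x * q ∈ zpowers x := hzx ▸ (by simpa using hMn.conj_mem x hxM q⁻¹)
    obtain ⟨k, hk⟩ := mem_zpowers_iff.1 hm
    have e : g * f q = f q * g ^ k := by
      rw [hg, ← map_zpow, ← map_mul, ← map_mul, hk]; congr 1; group
    have := Equiv.ext_iff.1 e a
    simp only [Equiv.Perm.mul_apply] at this
    rw [this, Equiv.Perm.zpow_apply_eq_self_of_apply_eq_self ha]
  let F := {a : Fin 8 // g a = a}
  have hiff : ∀ (q : Q) (a : Fin 8), g (f q a) = f q a ↔ g a = a := fun q a =>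
    ⟨fun h => by simpa using hinv q⁻¹ _ h, hinv q a⟩
  let θ : Q →* Perm F :=
    { toFun := fun q => (f q).subtypePerm (hiff q)
      map_one' := Equiv.ext fun a => Subtype.ext (by simp)
      map_mul' := fun q r => Equiv.ext fun a => Subtype.ext (by simp) }
  have hFcard : Fintype.card F = 5 := by
    have : Fintype.card F = g.supportᶜ.card := by
      rw [Fintype.card_subtype]; congr 1; ext a; simp
    rw [this, Finset.card_compl, hsupp, Fintype.card_fin]
  have hMker : M ≤ θ.ker := by
    rw [← hzx, zpowers_le, MonoidHom.mem_ker]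
    exact Equiv.ext fun a => Subtype.ext a.2
  have hker3 : Nat.card θ.ker ≤ 3 := by
    have hfix : ∀ q ∈ θ.ker, ∀ a : Fin 8, g a = a → f q a = a := fun q hq a ha =>
      congrArg Subtype.val (Equiv.ext_iff.1 (MonoidHom.mem_ker.1 hq) ⟨a, ha⟩)
    have hmem : ∀ q ∈ θ.ker, ∀ a, f q a ∈ g.support ↔ a ∈ g.support := by
      intro q hq a
      rw [mem_support, mem_support, not_iff_not]
      exact hiff q a
    let ψ : θ.ker → alternatingGroup {a // a ∈ g.support} := fun q =>
      ⟨(f q.1).subtypePerm (hmem q.1 q.2), by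
        rw [mem_alternatingGroup]
        convert (sign_subtypePerm (f q.1) (hmem q.1 q.2) fun a ha =>
          mem_support.2 fun h => ha (hfix q.1 q.2 a h)).trans (heven q.1) using 0
        congr!⟩
    have hψ : Function.Injective ψ := fun a b hab => by
      apply Subtype.ext
      apply hf
      ext v
      by_cases hv : v ∈ g.support
      · have := congrArg Subtype.val (Equiv.ext_iff.1 (congrArg Subtype.val hab) ⟨v, hv⟩)
        simp [ψ] at this
        rw [this]
      · rw [hfix a.1 a.2 v (not_not.1 (mem_support.not.1 hv)), hfix b.1 b.2 v (not_not.1 (mem_support.not.1 hv))]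
    haveI : Nontrivial {a // a ∈ g.support} := by
      rw [← Fintype.one_lt_card_iff_nontrivial, Fintype.card_coe, hsupp]; norm_num
    refine (Nat.card_le_card_of_injective ψ hψ).trans ?_
    rw [nat_card_alternatingGroup, Nat.card_eq_fintype_card, Fintype.card_coe, hsupp]
    rfl
  have hker : θ.ker = M := (eq_of_le_of_card_ge hMker (by rw [hM3]; exact hker3)).symm
  let θ' : Q →* Perm (Fin 5) := (Equiv.permCongrHom (Fintype.equivFinOfCardEq hFcard)).toMonoidHom.comp θ
  have hker' : θ'.ker = M := by
    rw [← hker]; ext q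
    simp only [θ', MonoidHom.mem_ker, MonoidHom.comp_apply]
    exact MulEquiv.map_eq_one_iff _
  set H := θ'.range with hH
  have hHns : ¬ Group.IsSolvable H := fun hs => hns (by
    haveI : Group.IsSolvable θ'.ker := by rw [hker']; infer_instance
    haveI := hs
    exact solvable_of_ker_le_range θ'.ker.subtype θ'.rangeRestrict
      (by rw [MonoidHom.ker_rangeRestrict, Subgroup.range_subtype]))
  have hA : alternatingGroup (Fin 5) ≤ H := by
    have h60 : Nat.card (alternatingGroup (Fin 5)) = 60 := by
      rw [nat_card_alternatingGroup, Nat.card_fin]; rfl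
    set K := H ⊓ alternatingGroup (Fin 5) with hK
    have hKd : Nat.card K ∣ 60 := h60 ▸ card_dvd_of_le inf_le_right
    have hK60 : Nat.card K = 60 := by
      by_contra hne
      haveI := isSolvable_sixty hKd hne
      refine hHns ?_
      exact solvable_of_ker_le_range (inclusion (inf_le_left : K ≤ H)) (sign.comp H.subtype)
        (fun h hh => ⟨⟨h, h.2, by simpa [mem_alternatingGroup] using hh⟩, rfl⟩)
    rw [← eq_of_le_of_card_ge (inf_le_right : K ≤ _) (by rw [h60, hK60])]
    exact inf_le_left
  let e : Q ⧸ Cfsg.pCore 3 Q ≃* H :=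
    (QuotientGroup.quotientMulEquivOfEq (hcore.trans hker'.symm)).trans (QuotientGroup.quotientKerEquivRange θ')
  refine ⟨by rw [hcore, hM3], ?_⟩
  by_cases hH' : H ≤ alternatingGroup (Fin 5)
  · exact Or.inl ⟨e.trans (MulEquiv.subgroupCongr (le_antisymm hH' hA))⟩
  · refine Or.inr ⟨e.trans ((MulEquiv.subgroupCongr ?_).trans topEquiv)⟩
    rw [eq_top_iff]
    intro σ _
    obtain ⟨τ, hτH, hτA⟩ := SetLike.not_le_iff_exists.1 hH'
    rw [mem_alternatingGroup] at hτA
    rcases Int.units_eq_one_or (sign σ) with h | h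
    · exact hA (mem_alternatingGroup.2 h)
    · have hs : σ * τ⁻¹ ∈ H := hA (mem_alternatingGroup.2 (by
        rw [map_mul, map_inv, h, (Int.units_eq_one_or (sign τ)).resolve_left hτA]; rfl))
      simpa using mul_mem hs hτH

end Cfsg.Agent.GroupStructure3.RankFourTop
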